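/-
Certificates for generation of Chevalley groups by two elements.
-/
import Cfsg.Agent.Lib.Chev.Subgroups
import Cfsg.Agent.Lib.Chev.CommEngine

set_option autoImplicit false

namespace Cfsg.Agent.Chev.TwoGen

open Cfsg.Agent.Chev

/-- Integer coefficient that is a unit in every ring. -/
def isOneB (c : ℤ) : Bool := decide (c = 1 ∨ c = -1)

/-- Every factor other than the target lies in `R`, and the target occurs once, linearly, with coefficient `±1`. -/
def singleB (R : List ℕ) (fs : List (ℕ × ℤ × ℕ)) (e : ℕ) : Bool :=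
  match fs.filter (fun f => !R.contains f.1) with
  | [f] => Nat.beq f.1 e && isOneB f.2.1 && Nat.beq f.2.2 1
  | _ => false

/-- Factors of `x_d(u) x_g(t) x_d(-u)` as polynomials in `t`. -/
def conjFs (P : Pk) (d g : ℕ) : List (ℕ × ℤ × ℕ) :=
  ((P.cterms g d).map fun c => (c.1, c.2.1, c.2.2.1)) ++ [(g, 1, 1)]

/-- One derivation step. -/
def stepB (P : Pk) (l : List ℕ) (d : ℕ) (R : List ℕ) : ℕ × ℕ × ℕ × ℕ → Bool
  | (0, r, s, e) => R.contains r && R.contains s && !Nat.beq s r && !Nat.beq s (P.ng r) &&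
      singleB R ((P.cterms r s).map fun c => (c.1, c.2.1, c.2.2.1)) e
  | (1, g, _, e) => R.contains g && R.contains d && Nat.beq (wl P l g) e
  | (2, g, _, e) => R.contains g && !Nat.beq (wl P l g) d && !Nat.beq d (P.ng (wl P l g)) &&
      singleB R (conjFs P d (wl P l g)) e
  | (3, g, _, e) => R.contains g && !Nat.beq g d && !Nat.beq d (P.ng g) &&
      singleB R ((conjFs P d g).map fun f => (wl P l.reverse f.1, f.2.1, f.2.2)) e
  | _ => false

/-- A derivation reaching the final list. -/
def runB (P : Pk) (l : List ℕ) (d : ℕ) : List (ℕ × ℕ × ℕ × ℕ) → List ℕ → Bool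
  | [], R => (List.range P.rank).all fun i => R.contains (P.sim i) && R.contains (P.ng (P.sim i))
  | c :: cs, R => stepB P l d R c && runB P l d cs (c.2.2.2 :: R)

/-- The `k`-th iterate of the word. -/
def orbK (P : Pk) (l : List ℕ) : ℕ → ℕ → ℕ
  | 0, r => r
  | k + 1, r => wl P l (orbK P l k r)

/-- Certificate for a group over a field with more than two elements. -/
def ckTorus (P : Pk) (l : List ℕ) (j a d k : ℕ) (cs : List (ℕ × ℕ × ℕ × ℕ)) : Bool :=
  Nat.blt j P.rank && (l.all fun i => Nat.blt i P.rank) && Nat.blt a P.nroots && Nat.blt d P.nroots &&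
    decide (P.A j a = 0) && isOneB (P.A j d) && isOneB (P.A j (wl P l.reverse d)) &&
    decide (P.A j (orbK P l k a) ∈ [1, -1, 2, -2]) && runB P l d cs [orbK P l k a, d]

/-- Certificate for a group over the field with two elements. -/
def ckPrime (P : Pk) (l : List ℕ) (a d : ℕ) (cs : List (ℕ × ℕ × ℕ × ℕ)) : Bool :=
  (l.all fun i => Nat.blt i P.rank) && Nat.blt a P.nroots && Nat.blt d P.nroots && runB P l d cs [a]

end Cfsg.Agent.Chev.TwoGen
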