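/-
Two elements generating a Chevalley group.
-/
import Cfsg.Agent.Lib.Chev.Gen.TwoGenCheck
import Cfsg.Agent.Lib.CurtisTits.Present

set_option autoImplicit false
set_option linter.unusedSectionVars false
set_option maxHeartbeats 1000000

namespace Cfsg.Agent.Chev.TwoGen

open Cfsg.Agent.Chev Cfsg.Lie
open Cfsg.Agent.Chev.CT (rhsW)

variable {D : ChevalleyDatum} {P : Pk} {K : Type*} [Field K]

theorem prod_single {G α : Type*} [Group G] {M : Subgroup G} (f : α → G) (p : α → Bool) : ∀ (L : List α) (x : α),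
    L.filter p = [x] → (∀ y ∈ L, p y = false → f y ∈ M) → (L.map f).prod ∈ M → f x ∈ M
  | [], x, he, _, _ => by simp at he
  | y :: L, x, he, hM, hp => by
    rw [List.map_cons, List.prod_cons] at hp
    cases hy : p y
    · rw [List.filter_cons_of_neg (by simp [hy])] at he
      exact prod_single f p L x he (fun z hz => hM z (List.mem_cons_of_mem _ hz))
        ((Subgroup.mul_mem_cancel_left M (hM y List.mem_cons_self hy)).1 hp)
    · rw [List.filter_cons_of_pos hy, List.cons.injEq] at he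
      obtain ⟨rfl, he⟩ := he
      exact (Subgroup.mul_mem_cancel_right M (list_prod_mem (fun g hg => by
        obtain ⟨z, hz, rfl⟩ := List.mem_map.1 hg
        refine hM z (List.mem_cons_of_mem _ hz) ?_
        have := List.filter_eq_nil_iff.1 he z hz
        simpa using this))).1 hp

section Sub

variable (h : CT.Full D P) (M : Subgroup (GL D.Idx K))

/-- The root subgroup lies in `M`. -/
def AllIn (r : ℕ) : Prop := ∀ t : K, h.okD.xG r t ∈ M

variable {h M}

theorem single_in {α : Type*} {R : List ℕ} {e : ℕ} (L : List α) (φ : α → ℕ × ℤ × ℕ)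
    (hs : singleB R (L.map φ) e = true) (hR : ∀ r ∈ R, AllIn h M r) (v : α → K → K)
    (hv : ∀ x ∈ L, (φ x).2.2 = 1 → ((φ x).2.1 = 1 ∨ (φ x).2.1 = -1) → ∃ σ : K, σ ≠ 0 ∧ ∀ t, v x t = σ * t)
    (hprod : ∀ t, (L.map fun x => h.okD.xG (φ x).1 (v x t)).prod ∈ M) : AllIn h M e := by
  unfold singleB at hs
  split at hs
  next f hf =>
    simp only [Bool.and_eq_true, nbeq, decide_eq_true_eq, isOneB] at hs
    obtain ⟨⟨h1, h2⟩, h3⟩ := hs
    rw [List.filter_map] at hf
    obtain ⟨x, hx, hxf⟩ : ∃ x, L.filter ((fun f => !R.contains f.1) ∘ φ) = [x] ∧ φ x = f := by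
      obtain ⟨x, hx⟩ := List.map_eq_singleton_iff.1 hf
      exact ⟨x, hx⟩
    have hxL : x ∈ L := (List.mem_filter.1 (by rw [hx]; exact List.mem_singleton_self x : x ∈ L.filter _)).1
    subst hxf
    obtain ⟨σ, hσ, hσv⟩ := hv x hxL h3 h2
    intro s
    have := prod_single (M := M) (fun y => h.okD.xG (φ y).1 (v y (s / σ))) _ L x hx (fun y _ hy => by
      simp only [Function.comp, Bool.not_eq_false', List.contains_iff_mem] at hy
      exact hR _ hy _) (hprod _)
    simpa [hσv, mul_div_cancel₀ _ hσ, h1] using this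
  next => exact absurd hs Bool.false_ne_true

theorem wl_reverse' (h : CT.Full D P) {l : List ℕ} (hl : WordOk P l) {r : ℕ} (hr : r < P.nroots) : wl P l (wl P l.reverse r) = r := by
  have := h.okD.wl_reverse l.reverse (fun i hi => hl i (List.mem_reverse.1 hi)) r hr
  rwa [List.reverse_reverse] at this

theorem nW_moves {l : List ℕ} (hl : WordOk P l) {r : ℕ} (hr : r < P.nroots) :
    ∃ σ : K, σ ≠ 0 ∧ ∀ t : K, h.okD.nW l * h.okD.xG r t * (h.okD.nW l)⁻¹ = h.okD.xG (wl P l r) (σ * t) := by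
  obtain ⟨σ, hσ, hx⟩ := h.okD.nW_xG (F := K) l hl r hr
  exact ⟨σ, fun e => by simp [e] at hσ, fun t => (hx t).1⟩

theorem nW_back {l : List ℕ} (hl : WordOk P l) {r : ℕ} (hr : r < P.nroots) :
    ∃ σ : K, σ ≠ 0 ∧ ∀ t : K, (h.okD.nW l)⁻¹ * h.okD.xG r t * h.okD.nW l = h.okD.xG (wl P l.reverse r) (σ * t) := by
  have hlr := h.okD.wl_lt l.reverse (fun i hi => hl i (List.mem_reverse.1 hi)) r hr
  obtain ⟨σ, hσ, hx⟩ := h.okD.nW_xG (F := K) l hl _ hlr
  refine ⟨σ, fun e => by simp [e] at hσ, fun t => ?_⟩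
  have e := (hx (σ * t)).1
  rw [wl_reverse' h hl hr, ← mul_assoc, hσ, one_mul] at e
  rw [← e]
  group

/-- The conjugation formula along the commutator relation. -/
theorem conj_formula {g d : ℕ} (hg : g < P.nroots) (hd : d < P.nroots) (h1 : d ≠ g) (h2 : d ≠ P.ng g) (u t : K) :
    h.okD.xG d (-u) * h.okD.xG g t * h.okD.xG d u = rhsW P h.okD.xG g d (-t) u * h.okD.xG g t := by
  have e := CT.chev_comm h hg hd h1 h2 (-t) u
  rw [h.okD.xG_inv, h.okD.xG_inv, neg_neg] at e
  rw [← e, mul_assoc _ (h.okD.xG g (-t)) (h.okD.xG g t), h.okD.xG_add, neg_add_cancel, h.okD.xG_zero, mul_one]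

theorem conjFs_eq {g d : ℕ} :
    conjFs P d g = ((P.cterms g d).map some ++ [none]).map
      (fun x : Option (ℕ × ℤ × ℕ × ℕ) => x.elim (g, (1 : ℤ), 1) fun c => (c.1, c.2.1, c.2.2.1)) := by
  simp [conjFs, Function.comp_def]

theorem conj_prod {g d : ℕ} (hg : g < P.nroots) (hd : d < P.nroots) (h1 : d ≠ g) (h2 : d ≠ P.ng g) (u t : K) :
    h.okD.xG d (-u) * h.okD.xG g t * h.okD.xG d u = (((P.cterms g d).map some ++ [none]).map fun x : Option (ℕ × ℤ × ℕ × ℕ) =>
      h.okD.xG (x.elim (g, (1 : ℤ), 1) fun c => (c.1, c.2.1, c.2.2.1)).1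
        (x.elim t fun c => (c.2.1 : K) * (- -t) ^ c.2.2.1 * u ^ c.2.2.2)).prod := by
  rw [conj_formula (h := h) hg hd h1 h2, rhsW]
  simp [Function.comp_def]

variable {l : List ℕ} {d : ℕ} (hl : WordOk P l) (hd : d < P.nroots) (hb : h.okD.xG d 1 * h.okD.nW l ∈ M)
include hl hd hb

theorem step_in {R : List ℕ} {c : ℕ × ℕ × ℕ × ℕ} (hs : stepB P l d R c = true)
    (hR : ∀ r ∈ R, r < P.nroots ∧ AllIn h M r) (he : c.2.2.2 < P.nroots) : AllIn h M c.2.2.2 := by
  have hR' : ∀ r ∈ R, AllIn h M r := fun r hr => (hR r hr).2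
  obtain ⟨k, g, s, e⟩ := c
  match k, hs with
  | 0, hs =>
    simp only [stepB, Bool.and_eq_true, Bool.not_eq_true', nbeq, decide_eq_false_iff_not,
      List.contains_iff_mem] at hs
    obtain ⟨⟨⟨⟨hg, hs'⟩, h1⟩, h2⟩, h3⟩ := hs
    refine single_in (P.cterms g s) (fun c => (c.1, c.2.1, c.2.2.1)) h3 hR'
      (fun c t => (c.2.1 : K) * (-t) ^ c.2.2.1 * (1 : K) ^ c.2.2.2)
      (fun x _ hx hx' => ⟨-(x.2.1 : K), ?_, fun t => ?_⟩) fun t => ?_
    · rcases hx' with e | e <;> simp only at e <;> simp [e]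
    · simp only at hx
      simp [hx]
    · have e := CT.chev_comm h (hR g hg).1 (hR s hs').1 h1 h2 t 1
      rw [rhsW] at e
      rw [← e]
      exact mul_mem (mul_mem (mul_mem (inv_mem (hR' s hs' _)) (inv_mem (hR' g hg _))) (hR' s hs' _)) (hR' g hg _)
  | 1, hs =>
    simp only [stepB, Bool.and_eq_true, nbeq, decide_eq_true_eq, List.contains_iff_mem] at hs
    obtain ⟨⟨hg, hdR⟩, rfl⟩ := hs
    have hn : h.okD.nW l ∈ M := (Subgroup.mul_mem_cancel_left M (hR' d hdR 1)).1 hb
    obtain ⟨σ, hσ, hx⟩ := nW_moves (h := h) (K := K) hl (hR g hg).1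
    intro t
    have := hx (t / σ)
    rw [mul_div_cancel₀ _ hσ] at this
    rw [← this]
    exact mul_mem (mul_mem hn (hR' g hg _)) (inv_mem hn)
  | 2, hs =>
    simp only [stepB, Bool.and_eq_true, Bool.not_eq_true', nbeq, decide_eq_false_iff_not,
      List.contains_iff_mem] at hs
    obtain ⟨⟨⟨hg, h1⟩, h2⟩, h3⟩ := hs
    rw [conjFs_eq] at h3
    have hg' := h.okD.wl_lt l hl g (hR g hg).1
    refine single_in _ _ h3 hR'
      (fun x t => x.elim t fun c => (c.2.1 : K) * (- -t) ^ c.2.2.1 * (-1 : K) ^ c.2.2.2)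
      (fun x _ hx hx' => ?_) fun t => ?_
    · cases x with
      | none => exact ⟨1, one_ne_zero, fun t => by simp⟩
      | some c =>
        simp only [Option.elim_some] at hx hx' ⊢
        refine ⟨(c.2.1 : K) * (-1) ^ c.2.2.2, mul_ne_zero ?_ (pow_ne_zero _ (by simp)), fun t => ?_⟩
        · rcases hx' with e | e <;> simp [e]
        · simp [hx]; ring
    · rw [← conj_prod (h := h) hg' hd (fun e => h1 e.symm) h2, neg_neg]
      obtain ⟨σ, hσ, hx⟩ := nW_moves (h := h) (K := K) hl (hR g hg).1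
      have e := hx (t / σ)
      rw [mul_div_cancel₀ _ hσ] at e
      rw [← e, ← h.okD.xG_inv]
      have e2 : h.okD.xG d 1 * (h.okD.nW l * h.okD.xG g (t / σ) * (h.okD.nW l)⁻¹) * (h.okD.xG d 1)⁻¹ =
          (h.okD.xG d 1 * h.okD.nW l) * h.okD.xG g (t / σ) * (h.okD.xG d 1 * h.okD.nW l)⁻¹ := by group
      rw [e2]
      exact mul_mem (mul_mem hb (hR' g hg _)) (inv_mem hb)
  | 3, hs =>
    simp only [stepB, Bool.and_eq_true, Bool.not_eq_true', nbeq, decide_eq_false_iff_not,
      List.contains_iff_mem] at hs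
    obtain ⟨⟨⟨hg, h1⟩, h2⟩, h3⟩ := hs
    rw [conjFs_eq, List.map_map] at h3
    set L := (P.cterms g d).map some ++ [none] with hL
    set w : Option (ℕ × ℤ × ℕ × ℕ) → ℕ := fun x => (x.elim (g, (1 : ℤ), 1) fun c => (c.1, c.2.1, c.2.2.1)).1
      with hw
    have hwlt : ∀ x ∈ L, w x < P.nroots := by
      intro x hx
      simp only [hL, List.mem_append, List.mem_map, List.mem_singleton] at hx
      rcases hx with ⟨c, hc, rfl⟩ | rfl
      · exact h.okD.cterms_lt (hR g hg).1 hd _ hc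
      · exact (hR g hg).1
    classical
    let τ : ℕ → K := fun r => if hr : r < P.nroots then (nW_back (h := h) (K := K) hl hr).choose else 1
    have hτ : ∀ r < P.nroots, τ r ≠ 0 ∧ ∀ t, (h.okD.nW l)⁻¹ * h.okD.xG r t * h.okD.nW l =
        h.okD.xG (wl P l.reverse r) (τ r * t) := fun r hr => by
      simp only [τ, dif_pos hr]
      exact (nW_back (h := h) (K := K) hl hr).choose_spec
    refine single_in L _ h3 hR'
      (fun x t => τ (w x) * x.elim t fun c => (c.2.1 : K) * (- -t) ^ c.2.2.1 * (1 : K) ^ c.2.2.2)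
      (fun x hx hx1 hx2 => ?_) fun t => ?_
    · obtain ⟨hτ0, -⟩ := hτ _ (hwlt x hx)
      cases x with
      | none => exact ⟨_, hτ0, fun t => rfl⟩
      | some c =>
        simp only [Function.comp, Option.elim_some] at hx1 hx2 ⊢
        refine ⟨τ (w (some c)) * (c.2.1 : K), mul_ne_zero hτ0 ?_, fun t => ?_⟩
        · rcases hx2 with e | e <;> simp [e]
        · simp [hx1]; ring
    · have e := congrArg (MulAut.conj ((h.okD.nW (F := K) l)⁻¹)) (conj_prod (h := h) (hR g hg).1 hd (fun e => h1 e.symm) h2 1 t)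
      rw [map_list_prod, List.map_map] at e
      have key : (L.map fun x => h.okD.xG ((fun f : ℕ × ℤ × ℕ => (wl P l.reverse f.1, f.2.1, f.2.2))
          ((fun x : Option (ℕ × ℤ × ℕ × ℕ) => x.elim (g, (1 : ℤ), 1) fun c => (c.1, c.2.1, c.2.2.1)) x)).1
          (τ (w x) * x.elim t fun c => (c.2.1 : K) * (- -t) ^ c.2.2.1 * (1 : K) ^ c.2.2.2)).prod =
          MulAut.conj ((h.okD.nW (F := K) l)⁻¹) (h.okD.xG d (-1) * h.okD.xG g t * h.okD.xG d 1) := by
        rw [e]
        refine congrArg List.prod (List.map_congr_left fun x hx => ?_)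
        simp only [Function.comp, MulAut.conj_apply, inv_inv]
        exact ((hτ _ (hwlt x hx)).2 _).symm
      simp only [Function.comp] at key ⊢
      rw [key, MulAut.conj_apply, inv_inv, ← h.okD.xG_inv]
      have e2 : (h.okD.nW l)⁻¹ * ((h.okD.xG d 1)⁻¹ * h.okD.xG g t * h.okD.xG d 1) * h.okD.nW l =
          (h.okD.xG d 1 * h.okD.nW l)⁻¹ * h.okD.xG g t * (h.okD.xG d 1 * h.okD.nW l) := by group
      rw [e2]
      exact mul_mem (mul_mem (inv_mem hb) (hR' g hg _)) hb
  | k + 4, hs => simp [stepB] at hs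

omit hl hd hb in
theorem singleB_mem {R : List ℕ} {fs : List (ℕ × ℤ × ℕ)} {e : ℕ} (hs : singleB R fs e = true) :
    ∃ f ∈ fs, f.1 = e := by
  unfold singleB at hs
  split at hs
  next f hf =>
    simp only [Bool.and_eq_true, nbeq, decide_eq_true_eq] at hs
    exact ⟨f, (List.mem_filter.1 (hf ▸ List.mem_singleton_self f)).1, hs.1.1⟩
  next => exact absurd hs Bool.false_ne_true

omit hb in
include h in
theorem step_lt {R : List ℕ} {c : ℕ × ℕ × ℕ × ℕ} (hs : stepB P l d R c = true)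
    (hR : ∀ r ∈ R, r < P.nroots) : c.2.2.2 < P.nroots := by
  have hlr : WordOk P l.reverse := fun i hi => hl i (List.mem_reverse.1 hi)
  obtain ⟨k, g, s, e⟩ := c
  match k, hs with
  | 0, hs =>
    simp only [stepB, Bool.and_eq_true, List.contains_iff_mem] at hs
    obtain ⟨f, hf, rfl⟩ := singleB_mem hs.2
    obtain ⟨c, hc, rfl⟩ := List.mem_map.1 hf
    exact h.okD.cterms_lt (hR g hs.1.1.1.1) (hR s hs.1.1.1.2) _ hc
  | 1, hs =>
    simp only [stepB, Bool.and_eq_true, nbeq, decide_eq_true_eq, List.contains_iff_mem] at hs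
    exact hs.2 ▸ h.okD.wl_lt l hl g (hR g hs.1.1)
  | 2, hs =>
    simp only [stepB, Bool.and_eq_true, List.contains_iff_mem] at hs
    obtain ⟨f, hf, rfl⟩ := singleB_mem hs.2
    have hg' := h.okD.wl_lt l hl g (hR g hs.1.1.1)
    simp only [conjFs, List.mem_append, List.mem_map, List.mem_singleton] at hf
    rcases hf with ⟨c, hc, rfl⟩ | rfl
    · exact h.okD.cterms_lt hg' hd _ hc
    · exact hg'
  | 3, hs =>
    simp only [stepB, Bool.and_eq_true, List.contains_iff_mem] at hs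
    obtain ⟨f, hf, rfl⟩ := singleB_mem hs.2
    obtain ⟨f', hf', rfl⟩ := List.mem_map.1 hf
    refine h.okD.wl_lt _ hlr _ ?_
    simp only [conjFs, List.mem_append, List.mem_map, List.mem_singleton] at hf'
    rcases hf' with ⟨c, hc, rfl⟩ | rfl
    · exact h.okD.cterms_lt (hR g hs.1.1.1) hd _ hc
    · exact hR g hs.1.1.1
  | k + 4, hs => simp [stepB] at hs

theorem run_le : ∀ (cs : List (ℕ × ℕ × ℕ × ℕ)) (R : List ℕ), runB P l d cs R = true →
    (∀ r ∈ R, r < P.nroots ∧ AllIn h M r) → D.group K ≤ M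
  | [], R, hs, hR => by
    simp only [runB, List.all_eq_true, List.mem_range, Bool.and_eq_true, List.contains_iff_mem] at hs
    refine h.okD.group_le fun r hr => ?_
    refine h.okD.root_induction (Q := fun r => AllIn h M r) (fun i hi => (hR _ (hs i hi).1).2) ?_ r hr
    intro i hi r hr hm t
    have hn : h.okD.nG i ∈ M := mul_mem (mul_mem ((hR _ (hs i hi).1).2 _) ((hR _ (hs i hi).2).2 _)) ((hR _ (hs i hi).1).2 _)
    have hsq : (P.eta i r : K) * P.eta i r = 1 := by rw [← Int.cast_mul, CT.eta_sq, Int.cast_one]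
    have e := h.okD.nG_xG hi hr ((P.eta i r : K) * t)
    rw [← mul_assoc, hsq, one_mul] at e
    exact e ▸ mul_mem (mul_mem hn (hm _)) (inv_mem hn)
  | c :: cs, R, hs, hR => by
    simp only [runB, Bool.and_eq_true] at hs
    refine run_le cs _ hs.2 (List.forall_mem_cons.2 ⟨?_, hR⟩)
    have he := step_lt (h := h) hl hd hs.1 fun r hr => (hR r hr).1
    exact ⟨he, step_in hl hd hb hs.1 hR he⟩

end Sub

end Cfsg.Agent.Chev.TwoGen
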