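/-
The two generators.
-/
import Cfsg.Agent.Lib.Chev.Gen.TwoGen

set_option autoImplicit false
set_option linter.unusedSectionVars false
set_option maxHeartbeats 1000000

namespace Cfsg.Agent.Chev.TwoGen

open Cfsg.Agent.Chev Cfsg.Lie

theorem closure_pair {G : Type*} [Group G] {H : Subgroup G} {a b : G} (ha : a ∈ H) (hb : b ∈ H)
    (hle : H ≤ Subgroup.closure {a, b}) : ∃ x y : H, Subgroup.closure ({x, y} : Set H) = ⊤ := by
  refine ⟨⟨a, ha⟩, ⟨b, hb⟩, Subgroup.map_injective H.subtype_injective ?_⟩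
  rw [MonoidHom.map_closure, Set.image_pair, ← MonoidHom.range_eq_map, Subgroup.range_subtype]
  exact le_antisymm ((Subgroup.closure_le _).2 (Set.insert_subset_iff.2 ⟨ha, Set.singleton_subset_iff.2 hb⟩)) hle

/-- An element closed under addition and under multiplication by a field generator. -/
theorem full_of_gen {K : Type*} [Field K] [Finite K] {lam : Kˣ} (hg : ∀ x : Kˣ, x ∈ Subgroup.zpowers lam)
    {k : ℤ} (hk : k ∈ [1, -1, 2, -2]) (S : AddSubgroup K) (c : K) (hc : c ≠ 0)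
    (hS : ∀ n : ℕ, ((lam ^ k : Kˣ) : K) ^ n * c ∈ S) (x : K) : x ∈ S := by
  classical
  haveI := Fintype.ofFinite K
  set μ : Kˣ := lam ^ k with hμ
  set R := Subring.closure {(μ : K)} with hR
  have hmem : ∀ y ∈ R, y * c ∈ S := fun y hy => by
    have key : AddSubgroup.closure (Submonoid.closure {(μ : K)} : Set K) ≤ S.comap (AddMonoidHom.mulRight c) := by
      refine (AddSubgroup.closure_le _).2 fun z hz => ?_
      obtain ⟨n, rfl⟩ := Submonoid.mem_closure_singleton.1 hz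
      exact hS n
    exact key (Subring.mem_closure_iff.1 hy)
  suffices hfull : ∀ y, y ∈ R by
    have := hmem _ (hfull (x / c))
    rwa [div_mul_cancel₀ _ hc] at this
  by_contra hne
  push Not at hne
  obtain ⟨y, hy⟩ := hne
  haveI : Fintype R := Fintype.ofFinite R
  letI : Field R := Fintype.fieldOfDomain R
  letI : Algebra R K := R.subtype.toAlgebra
  haveI : Module.Finite R K := Module.Finite.of_finite
  obtain ⟨hr2, hq⟩ : 2 ≤ Nat.card R ∧ Nat.card K = Nat.card R ^ Module.finrank R K :=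
    ⟨Finite.one_lt_card, Module.natCard_eq_pow_finrank⟩
  have hd : 2 ≤ Module.finrank R K := by
    by_contra hlt
    have : Nat.card K ≤ Nat.card R := by
      rw [hq]
      calc Nat.card R ^ Module.finrank R K ≤ Nat.card R ^ 1 := Nat.pow_le_pow_right (by omega) (by omega)
        _ = _ := pow_one _
    have hbij : Function.Bijective ((↑) : R → K) :=
      (Nat.bijective_iff_injective_and_card _).2 ⟨Subtype.val_injective, le_antisymm
        (Nat.card_le_card_of_injective _ Subtype.val_injective) this⟩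
    obtain ⟨z, rfl⟩ := hbij.2 y
    exact hy z.2
  have hμR : (μ : K) ∈ R := Subring.subset_closure rfl
  have hpow : μ ^ (Nat.card R - 1) = 1 := by
    have h0 : (⟨(μ : K), hμR⟩ : R) ≠ 0 := fun e => μ.ne_zero (congrArg Subtype.val e)
    have := FiniteField.pow_card_sub_one_eq_one (⟨(μ : K), hμR⟩ : R) h0
    rw [← Nat.card_eq_fintype_card] at this
    apply Units.ext
    rw [Units.val_pow_eq_pow_val, Units.val_one]
    exact (congrArg Subtype.val this :)
  have hord : orderOf lam = Nat.card K - 1 := by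
    rw [orderOf_eq_card_of_forall_mem_zpowers hg, Nat.card_units]
  have hdvd : (orderOf lam : ℤ) ∣ k * ((Nat.card R - 1 : ℕ) : ℤ) := by
    rw [orderOf_dvd_iff_zpow_eq_one, zpow_mul, zpow_natCast, ← hμ, hpow]
  have hdvd2 : Nat.card K - 1 ∣ 2 * (Nat.card R - 1) := by
    rw [hord] at hdvd
    have h2 : ((Nat.card K - 1 : ℕ) : ℤ) ∣ 2 * ((Nat.card R - 1 : ℕ) : ℤ) := by
      refine hdvd.trans (mul_dvd_mul_right ?_ _)
      fin_cases hk <;> simp
    exact_mod_cast h2
  have hsq : Nat.card R ^ 2 ≤ Nat.card K := by rw [hq]; exact Nat.pow_le_pow_right (by omega) hd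
  have hle := Nat.le_of_dvd (by omega) hdvd2
  have : Nat.card R ^ 2 = Nat.card R * Nat.card R := by ring
  nlinarith [Nat.sub_add_cancel (show 1 ≤ Nat.card R by omega), Nat.sub_add_cancel (show 1 ≤ Nat.card K by nlinarith)]

variable {D : ChevalleyDatum} {P : Pk} {K : Type*} [Field K] (h : CT.Full D P)
include h

theorem exists_prime [Finite K] {l : List ℕ} {a d : ℕ} {cs : List (ℕ × ℕ × ℕ × ℕ)}
    (hck : ckPrime P l a d cs = true) (h2 : ∀ t : K, t = 0 ∨ t = 1) :
    ∃ x y : D.group K, Subgroup.closure ({x, y} : Set (D.group K)) = ⊤ := by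
  simp only [ckPrime, Bool.and_eq_true, List.all_eq_true, Nat.blt_eq] at hck
  obtain ⟨⟨⟨hl, ha⟩, hd⟩, hrun⟩ := hck
  set M := Subgroup.closure ({h.okD.xG a (1 : K), h.okD.xG d 1 * h.okD.nW l} : Set (GL D.Idx K))
  refine closure_pair (h.okD.mem_group_of_xG a 1)
    (mul_mem (h.okD.mem_group_of_xG d 1) (h.okD.monomial_le_group (h.okD.nW_mem l hl))) ?_
  refine run_le (h := h) (M := M) hl hd (Subgroup.subset_closure (Set.mem_insert_of_mem _ rfl)) cs _ hrun
    (fun r hr => ?_)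
  rw [List.mem_singleton.1 hr]
  refine ⟨ha, fun t => ?_⟩
  rcases h2 t with rfl | rfl
  · rw [h.okD.xG_zero]; exact one_mem _
  · exact Subgroup.subset_closure (Set.mem_insert _ _)

theorem exists_torus [Finite K] {l : List ℕ} {j a d k : ℕ} {cs : List (ℕ × ℕ × ℕ × ℕ)}
    (hck : ckTorus P l j a d k cs = true) (h3 : ∃ x : K, x ≠ 0 ∧ x ≠ 1) :
    ∃ x y : D.group K, Subgroup.closure ({x, y} : Set (D.group K)) = ⊤ := by
  classical
  haveI := Fintype.ofFinite K
  simp only [ckTorus, Bool.and_eq_true, List.all_eq_true, Nat.blt_eq, decide_eq_true_eq, isOneB] at hck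
  obtain ⟨⟨⟨⟨⟨⟨⟨⟨hj, hl⟩, ha⟩, hd⟩, hAa⟩, hAd⟩, hAd'⟩, hAk⟩, hrun⟩ := hck
  obtain ⟨lam, hlam⟩ := IsCyclic.exists_generator (α := Kˣ)
  have hlam1 : (lam : K) ≠ 1 := by
    intro e
    obtain ⟨x, hx0, hx1⟩ := h3
    obtain ⟨n, hn⟩ := Subgroup.mem_zpowers_iff.1 (hlam (Units.mk0 x hx0))
    rw [show lam = 1 from Units.ext e, one_zpow] at hn
    exact hx1 (congrArg Units.val hn.symm)
  have hs := h.okD.sim_lt hj
  set H := h.okD.ht (P.sim j) (lam : K) with hH
  set N := h.okD.nW (F := K) l with hN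
  have hHx : ∀ r < P.nroots, ∀ t : K, H * h.okD.xG r t * H⁻¹ = h.okD.xG r ((lam : K) ^ P.A j r * t) := by
    intro r hr t
    rw [hH, h.okD.ht_eq hs lam.ne_zero, h.okD.dG_xG _ hr, h.okD.pair_sim hj]
  set M := Subgroup.closure ({H * h.okD.xG a (1 : K), h.okD.xG d 1 * N} : Set (GL D.Idx K))
  have hA : H * h.okD.xG a (1 : K) ∈ M := Subgroup.subset_closure (Set.mem_insert _ _)
  have hB : h.okD.xG d 1 * N ∈ M := Subgroup.subset_closure (Set.mem_insert_of_mem _ rfl)
  have hcomm : Commute H (h.okD.xG a (1 : K)) := by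
    have := hHx a ha 1
    rw [hAa, zpow_zero, one_mul, mul_inv_eq_iff_eq_mul] at this
    exact this
  have hpow : ∀ n : ℕ, h.okD.xG a (1 : K) ^ n = h.okD.xG a (n : K) := fun n => by
    induction n with
    | zero => rw [pow_zero, Nat.cast_zero, h.okD.xG_zero]
    | succ n ih => rw [pow_succ, ih, h.okD.xG_add, Nat.cast_succ]
  have hq : ((Fintype.card K - 1 : ℕ) : K) = -1 := by
    rw [Nat.cast_sub Fintype.card_pos, Nat.cast_one, FiniteField.cast_card_eq_zero, zero_sub]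
  have hHp : H ^ (Fintype.card K - 1) = 1 := by
    rw [hH, ← h.okD.hHom_single ⟨j, hj⟩ lam, ← map_pow, ← Pi.mulSingle_pow,
      ← Fintype.card_units, pow_card_eq_one, Pi.mulSingle_one, map_one]
  have hxa : h.okD.xG a (1 : K) ∈ M := by
    have := pow_mem hA (Fintype.card K - 1)
    rw [hcomm.mul_pow, hHp, one_mul, hpow, hq, ← h.okD.xG_inv] at this
    exact inv_mem_iff.1 this
  have hHM : H ∈ M := (Subgroup.mul_mem_cancel_right M hxa).1 hA
  have hgrp : ∀ c : Kˣ, h.okD.ht (P.sim j) (c : K) ∈ D.diagonalSubgroup K := fun c =>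
    h.okD.ht_mem hs c.ne_zero
  set H' := N * H * N⁻¹ with hH'
  have hH'd : H' ∈ D.diagonalSubgroup K :=
    (Subgroup.mem_normalizer_iff.1 (h.okD.nW_normalizer l hl) H).1 (hgrp lam)
  have hHH' : Commute H H' := by
    obtain ⟨c, hc⟩ := h.okD.mem_diagonal_iff.1 (hgrp lam)
    obtain ⟨c', hc'⟩ := h.okD.mem_diagonal_iff.1 hH'd
    rw [hH, ← hc, ← hc']
    exact (Commute.all c c').map _
  have hlr : WordOk P l.reverse := fun i hi => hl i (List.mem_reverse.1 hi)
  set d' := wl P l.reverse d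
  have hH'x : ∀ t : K, H' * h.okD.xG d t * H'⁻¹ = h.okD.xG d ((lam : K) ^ P.A j d' * t) := by
    intro t
    have hd' := h.okD.wl_lt l.reverse hlr d hd
    obtain ⟨σ, hσ, hx⟩ := nW_moves (h := h) (K := K) hl hd'
    rw [wl_reverse' h hl hd] at hx
    have e1 := hx (t / σ)
    rw [mul_div_cancel₀ _ hσ] at e1
    rw [← e1, hH', hN, show ∀ n x y : GL D.Idx K, n * y * n⁻¹ * (n * x * n⁻¹) * (n * y * n⁻¹)⁻¹ =
      n * (y * x * y⁻¹) * n⁻¹ by intros; group, hHx _ hd', hx]
    congr 1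
    rw [mul_left_comm, mul_div_cancel₀ _ hσ]
  set μ : K := (lam : K) ^ P.A j d
  set μ' : K := (lam : K) ^ P.A j d'
  have hne : ∀ m : ℤ, m = 1 ∨ m = -1 → (lam : K) ^ m ≠ 1 := by
    rintro m (rfl | rfl) <;> simp [hlam1]
  have hg : h.okD.xG d (1 - μ') * H' = h.okD.xG d 1 * N * H * (h.okD.xG d 1 * N)⁻¹ := by
    have := hH'x (-1)
    rw [← h.okD.xG_inv, mul_neg, mul_one] at this
    rw [sub_eq_add_neg, ← h.okD.xG_add, ← this, hH']
    group
  have hgM : h.okD.xG d (1 - μ') * H' ∈ M := hg ▸ mul_mem (mul_mem hB hHM) (inv_mem hB)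
  have hc0 : h.okD.xG d ((μ - 1) * (1 - μ')) ∈ M := by
    have e : h.okD.xG d ((μ - 1) * (1 - μ')) =
        H * (h.okD.xG d (1 - μ') * H') * H⁻¹ * (h.okD.xG d (1 - μ') * H')⁻¹ := by
      rw [show H * (h.okD.xG d (1 - μ') * H') * H⁻¹ = (H * h.okD.xG d (1 - μ') * H⁻¹) * (H * H' * H⁻¹) by group,
        hHx d hd, hHH'.eq, mul_inv_cancel_right, mul_inv_rev, ← mul_assoc, mul_inv_cancel_right, h.okD.xG_inv,
        h.okD.xG_add]
      congr 1
      ring
    exact e ▸ mul_mem (mul_mem (mul_mem hHM hgM) (inv_mem hHM)) (inv_mem hgM)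
  have hfull : ∀ r < P.nroots, P.A j r ∈ [(1 : ℤ), -1, 2, -2] → (∃ c : K, c ≠ 0 ∧ h.okD.xG r c ∈ M) →
      AllIn h M r := by
    rintro r hr hk ⟨c, hc, hcM⟩ t
    let S : AddSubgroup K :=
      { carrier := {u | h.okD.xG r u ∈ M}
        add_mem' := fun {u v} hu hv => by
          show h.okD.xG r (u + v) ∈ M
          rw [← h.okD.xG_add]; exact mul_mem hu hv
        zero_mem' := by show h.okD.xG r 0 ∈ M; rw [h.okD.xG_zero]; exact one_mem _
        neg_mem' := fun {u} hu => by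
          show h.okD.xG r (-u) ∈ M
          rw [← h.okD.xG_inv]; exact inv_mem hu }
    refine full_of_gen hlam hk S c hc (fun n => ?_) t
    show h.okD.xG r _ ∈ M
    induction n with
    | zero => rwa [pow_zero, one_mul]
    | succ n ih =>
      rw [Units.val_zpow_eq_zpow_val] at ih ⊢
      rw [pow_succ', mul_assoc, ← hHx r hr]
      exact mul_mem (mul_mem hHM ih) (inv_mem hHM)
  have hdfull : AllIn h M d := hfull d hd (by rcases hAd with e | e <;> simp [e])
    ⟨_, mul_ne_zero (sub_ne_zero.2 (hne _ hAd)) (sub_ne_zero.2 (hne _ hAd').symm), hc0⟩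
  have hNM : N ∈ M := (Subgroup.mul_mem_cancel_left M (hdfull 1)).1 hB
  have horb : ∀ n, orbK P l n a < P.nroots ∧ ∃ c : K, c ≠ 0 ∧ h.okD.xG (orbK P l n a) c ∈ M := fun n => by
    induction n with
    | zero => exact ⟨ha, 1, one_ne_zero, hxa⟩
    | succ n ih =>
      obtain ⟨hlt, c, hc, hcM⟩ := ih
      obtain ⟨σ, hσ, hx⟩ := nW_moves (h := h) (K := K) hl hlt
      refine ⟨h.okD.wl_lt l hl _ hlt, σ * c, mul_ne_zero hσ hc, ?_⟩
      rw [orbK, ← hx]
      exact mul_mem (mul_mem hNM hcM) (inv_mem hNM)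
  refine closure_pair (mul_mem (h.okD.diagonal_le_group (hgrp lam)) (h.okD.mem_group_of_xG a 1))
    (mul_mem (h.okD.mem_group_of_xG d 1) (h.okD.monomial_le_group (h.okD.nW_mem l hl))) ?_
  refine run_le (h := h) (M := M) hl hd hB cs _ hrun ?_
  intro r hr
  rcases List.mem_cons.1 hr with rfl | hr
  · exact ⟨(horb k).1, hfull _ (horb k).1 hAk (horb k).2⟩
  · rw [List.mem_singleton.1 hr]; exact ⟨hd, hdfull⟩

end Cfsg.Agent.Chev.TwoGen
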