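/-
Two elements generating ²F₄(q).
-/
import Cfsg.Agent.Lib.Chev.TwF4Thm
import Cfsg.Agent.Lib.Chev.Gen.TwoGenMain

set_option autoImplicit false
set_option linter.unusedSectionVars false
set_option maxHeartbeats 800000

namespace Cfsg.Agent.Chev.TwF4

open Cfsg.Lie
open scoped Matrix

theorem genTables :
    [15, 25].map (wl F4.pk [0, 3, 1, 2, 1, 2]) = [24, 21] ∧
    [15, 21].map (fun r => (List.range 4).map fun i => F4.pk.A i r) = [[2, 0, -1, 0], [0, 2, -1, -1]] ∧
    [14, 23, 20, 22, 19, 17].map (wl F4.pk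
      ([0, 3, 1, 2, 1, 2] ++ [0, 3, 1, 2, 1, 2] ++ [0, 3, 1, 2, 1, 2] ++ [0, 3, 1, 2, 1, 2])) =
      [33, 24, 27, 25, 28, 30] := by decide +kernel

variable {K : Type*} [Field K] [CharP K 2] [Fintype K] (φ : K →+* K) (hφ : ∀ t, φ (φ t) ^ 2 = t)

/-- The orbit element used for the generator. -/
abbrev qq : ℕ × ℕ × ℕ × ℕ := (27, 25, 28, 30)

theorem qq_mem : qq ∈ quads := by decide

theorem pw_add (s t : K) : pw φ (33, 24) s * pw φ (33, 24) t = pw φ (33, 24) (s + t) := by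
  simp only [pw]
  rw [(F4.ok.commute_xG ckComm_F4 (pair_facts (33, 24) (by decide)).2.2.2.2.2 (φ t) s).symm.mul_mul_mul_comm, xa, xa,
    map_add]

theorem pw_zero : pw φ (33, 24) (0 : K) = 1 := by simp [pw, x0]

theorem pw_inv (t : K) : (pw φ (33, 24) t)⁻¹ = pw φ (33, 24) t :=
  inv_eq_of_mul_eq_one_right (by rw [pw_add, CharTwo.add_self_eq_zero, pw_zero])

include hφ

theorem tor_pw (z w : Kˣ) (t : K) : hH (tor φ z w) * pw φ (33, 24) t * (hH (tor φ z w))⁻¹ =
    pw φ (33, 24) (hchar F4.pk (tor φ z w) 24 * t) := by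
  obtain ⟨c24, c33, -, -, -, -⟩ := chars (tor φ z w)
  rw [pw, ← MulAut.conj_apply, map_mul, MulAut.conj_apply, MulAut.conj_apply, hH_x _ (by omega), hH_x _ (by omega),
    c24, c33, pw]
  simp only [tor_val, map_mul, map_inv₀, map_pow]
  congr 2
  ring

theorem tor_qw (z w : Kˣ) (t u : K) : hH (tor φ z w) * qw φ qq t u * (hH (tor φ z w))⁻¹ =
    qw φ qq (hchar F4.pk (tor φ z w) 25 * t) (hchar F4.pk (tor φ z w) 28 * u) := by
  obtain ⟨-, -, c25, c27, c28, c30⟩ := chars (tor φ z w)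
  rw [← MulAut.conj_apply, qw, nf]
  simp only [map_mul, MulAut.conj_apply]
  rw [hH_x _ (by omega), hH_x _ (by omega), hH_x _ (by omega), hH_x _ (by omega), c25, c27, c28, c30, qw, nf]
  simp only [tor_val, map_mul, map_pow, map_inv₀, hφ]
  congr 3 <;> field_simp <;> (try simp only [hφ]) <;> ring

theorem diag_tor {d : GL chevF4.Idx K} (hd : d ∈ chevF4.diagonalSubgroup K) (hf : d ∈ (T φ).fixed) :
    ∃ z w, d = hH (tor φ z w) := (diag_fixed_iff φ hφ).1 ⟨hd, hf⟩

omit hφ in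
theorem char_conj {l : List ℕ} (hl : WordOk F4.pk l) {r : ℕ} (hr : r < 48) {c c' : Fin 4 → Kˣ}
    (e : hH c' = F4.ok.nW l * hH c * (F4.ok.nW l)⁻¹) : hchar F4.pk c' (wl F4.pk l r) = hchar F4.pk c r := by
  obtain ⟨σ, hσ, hx⟩ := F4.ok.nW_xG (F := K) l hl r hr
  have hs : wl F4.pk l r < 48 := F4.ok.wl_lt l hl r hr
  have hσ0 : σ ≠ 0 := fun h => by simp [h] at hσ
  have e2 := hH_x c' hs (σ * 1)
  rw [x, x, ← (hx 1).1, e, show ∀ n h x : GL chevF4.Idx K, n * h * n⁻¹ * (n * x * n⁻¹) * (n * h * n⁻¹)⁻¹ =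
    n * (h * x * h⁻¹) * n⁻¹ by intros; group, hH_x c hr, x, (hx _).1, mul_one, mul_one] at e2
  have := F4.ok.xG_inj_param hs e2
  exact (mul_left_cancel₀ hσ0 (this.trans (mul_comm _ _))).symm

theorem mu_inj {v : K} (hv : v ≠ 0) (h : v ^ 3 = φ v ^ 4) : v = 1 := by
  have h1 : φ v ^ 3 = v ^ 2 := by
    rw [← map_pow, h, map_pow, show φ (φ v) ^ 4 = (φ (φ v) ^ 2) ^ 2 by ring, hφ]
  have h2 : v ^ 9 = v ^ 8 := by
    rw [show v ^ 9 = (v ^ 3) ^ 3 by ring, h, show (φ v ^ 4) ^ 3 = (φ v ^ 3) ^ 4 by ring, h1]; ring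
  rw [pow_succ] at h2
  exact (mul_eq_left₀ (pow_ne_zero 8 hv)).1 h2

theorem prod_surj (u : K) : ∃ t, φ t * t = u := by
  classical
  have hinj : Function.Injective fun t : K => φ t * t := by
    intro a b hab
    simp only at hab
    rcases eq_or_ne b 0 with rfl | hb
    · simp at hab
      exact hab
    have ha : a ≠ 0 := fun ha => by simp [ha, hb] at hab
    set v := a / b with hv
    have hv0 : v ≠ 0 := div_ne_zero ha hb
    have h1 : φ v * v = 1 := by
      rw [hv, map_div₀, div_mul_div_comm, hab, div_self]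
      exact mul_ne_zero ((map_ne_zero φ).2 hb) hb
    have h2 : φ (φ v) * φ v = 1 := by rw [← map_mul, h1, map_one]
    have h3 : v * φ v ^ 2 = 1 := by
      have := congrArg (· ^ 2) h2
      simp only [mul_pow, one_pow, hφ] at this
      exact this
    have h4 : φ v = 1 := by linear_combination h3 - φ v * h1
    rw [h4, one_mul] at h1
    rw [← div_eq_one_iff_eq hb]
    exact h1
  exact (Finite.injective_iff_surjective.1 hinj) u

variable (e : ℕ) (hφe : ∀ t, φ t = t ^ e) (G : TwistGrp (T φ)) (hG : G.G1 = twistedF4 K e)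
  (hO : G.O.orbs = orbsT)

include hφe G hG hO in
theorem two_gen {n : ℕ} (hcard : Fintype.card K = 4 * n) (hn : 2 ≤ n) :
    ∃ a b : ↥(twistedF4 K e), Subgroup.closure ({a, b} : Set ↥(twistedF4 K e)) = ⊤ := by
  classical
  obtain ⟨hw, hA, hw4⟩ := genTables
  simp only [List.map_cons, List.map_nil, List.cons.injEq, and_true] at hw hw4
  obtain ⟨w15, w25⟩ := hw
  obtain ⟨w14, w23, w20, w22, w19, w17⟩ := hw4
  simp only [List.range_succ, List.range_zero, List.nil_append, List.cons_append, List.map_cons, List.map_nil,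
    List.cons.injEq, and_true] at hA
  obtain ⟨⟨a0, a1, a2, a3⟩, ⟨b0, b1, b2, b3⟩⟩ := hA
  set l : List ℕ := [0, 3, 1, 2, 1, 2] with hl_def
  have hl : WordOk F4.pk l := fun i hi => by
    show i < 4
    simp [hl_def] at hi
    omega
  set N := F4.ok.nW (F := K) l with hN
  have hNG : N ∈ G.G1 := by
    rw [hN, show l = [0, 3] ++ [1, 2, 1, 2] from rfl, F4.ok.nW_append]
    exact mul_mem (G.nW_mem ([0, 3], [0, 3]) (by rw [hO]; decide))
      (G.nW_mem ([1, 2], [1, 2, 1, 2]) (by rw [hO]; decide))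
  obtain ⟨w, hgen⟩ := IsCyclic.exists_generator (α := Kˣ)
  set z : Kˣ := w ^ 2 / Units.map φ.toMonoidHom w ^ 2 with hz
  have hw0 : (φ (w : K)) ≠ 0 := (map_ne_zero φ).2 w.ne_zero
  have hzv : (z : K) = (w : K) ^ 2 / φ w ^ 2 := by simp [hz, div_eq_mul_inv]
  have hφzv : φ (z : K) = φ (w : K) ^ 2 / (w : K) := by
    rw [hzv, map_div₀, map_pow, map_pow, hφ]
  -- the generator of the field
  let Ψ : Kˣ →* Kˣ :=
    { toFun := fun v => v ^ 3 / Units.map φ.toMonoidHom v ^ 4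
      map_one' := by simp
      map_mul' := fun a b => by rw [map_mul, mul_pow, mul_pow, mul_div_mul_comm] }
  have hΨ : Function.Bijective Ψ := by
    rw [← Finite.injective_iff_bijective]
    refine (injective_iff_map_eq_one Ψ).2 fun v hv => Units.ext (mu_inj φ hφ v.ne_zero ?_)
    have := congrArg Units.val (div_eq_one.1 hv)
    simpa using this
  set μ := Ψ w with hμ
  have hμgen : ∀ x : Kˣ, x ∈ Subgroup.zpowers μ := fun x => by
    obtain ⟨y, rfl⟩ := hΨ.2 x
    obtain ⟨k, hk⟩ := Subgroup.mem_zpowers_iff.1 (hgen y)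
    exact Subgroup.mem_zpowers_iff.2 ⟨k, by rw [hμ, ← map_zpow, hk]⟩
  have hμv : (μ : K) = (w : K) ^ 3 / φ w ^ 4 := by simp [hμ, Ψ, div_eq_mul_inv]
  have hμ1 : (μ : K) ≠ 1 := by
    intro h
    have h1 : μ = 1 := Units.ext h
    have h2 : Nat.card Kˣ ≤ 1 := by
      rw [Nat.card_congr (Equiv.Set.univ Kˣ).symm]
      have : (Set.univ : Set Kˣ) ⊆ {1} := fun x _ => by
        have := hμgen x
        rw [h1, Subgroup.zpowers_one_eq_bot, Subgroup.mem_bot] at this
        exact this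
      exact le_trans (Nat.card_mono (Set.finite_singleton _) this) (by simp)
    rw [Nat.card_eq_fintype_card, Fintype.card_units, hcard] at h2
    omega
  have ch : ∀ r, hchar F4.pk (tor φ z w) r = φ (z : K) ^ F4.pk.A 0 r * φ (w : K) ^ F4.pk.A 1 r *
      (w : K) ^ F4.pk.A 2 r * (z : K) ^ F4.pk.A 3 r := fun r => Fin.prod_univ_four _
  obtain ⟨c24, -, c25, -, c28, -⟩ := chars (tor φ z w)
  simp only [tor_val] at c24 c25 c28
  have h24 : hchar F4.pk (tor φ z w) 24 = (μ : K) := by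
    rw [c24, hzv, hμv]; field_simp <;> ring
  have h25 : hchar F4.pk (tor φ z w) 25 = 1 := by
    rw [c25, hzv]; field_simp
  have h28 : hchar F4.pk (tor φ z w) 28 = 1 := by
    rw [c28, hφzv, hzv]; field_simp
  have h15 : hchar F4.pk (tor φ z w) 15 = ((μ⁻¹ : Kˣ) : K) := by
    rw [ch, a0, a1, a2, a3, hφzv, Units.val_inv_eq_inv_val, hμv]
    simp only [zpow_zero, mul_one, zpow_neg, zpow_ofNat, pow_one]
    field_simp <;> ring
  have h21 : hchar F4.pk (tor φ z w) 21 = ((μ⁻¹ : Kˣ) : K) := by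
    rw [ch, b0, b1, b2, b3, hzv, Units.val_inv_eq_inv_val, hμv]
    simp only [zpow_zero, one_mul, zpow_neg, zpow_ofNat, pow_one]
    field_simp <;> ring
  set H := hH (tor φ z w) with hH_def
  have hHG : H ∈ G.G1 := G.diag_mem ((diag_fixed_iff φ hφ).2 ⟨z, w, rfl⟩)
  have haG : qw φ qq 1 0 ∈ G.G1 := hG ▸ qw_mem φ e hφe qq_mem 1 0
  have hdG : ∀ t, pw φ (33, 24) t ∈ G.G1 := fun t => hG ▸ pw_mem φ e hφe (by decide) t
  set M := Subgroup.closure ({H * qw φ qq 1 0, pw φ (33, 24) 1 * N} : Set (GL chevF4.Idx K)) with hM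
  have hA' : H * qw φ qq 1 0 ∈ M := Subgroup.subset_closure (Set.mem_insert _ _)
  have hB : pw φ (33, 24) 1 * N ∈ M := Subgroup.subset_closure (Set.mem_insert_of_mem _ rfl)
  refine TwoGen.closure_pair (hG ▸ mul_mem hHG haG) (hG ▸ mul_mem (hdG 1) hNG) ?_
  show twistedF4 K e ≤ M
  -- separate the first generator
  have hcomm : Commute H (qw φ qq 1 0) := by
    have := tor_qw φ hφ z w 1 0
    rw [h25, h28, one_mul, one_mul, mul_inv_eq_iff_eq_mul] at this
    exact this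
  have ha : qw φ qq 1 0 ∈ M := by
    have h4 : qw φ qq (1 : K) 0 ^ 4 = 1 := by
      rw [show (4 : ℕ) = 2 * 2 from rfl, pow_mul, pow_two, pow_two, qw_mul φ hφ qq_mem, qw_mul φ hφ qq_mem]
      simp [CharTwo.add_self_eq_zero, qw_zero]
    have hHp : H ^ (Fintype.card K - 1) = 1 := by
      rw [hH_def, ← map_pow, show tor φ z w ^ (Fintype.card K - 1) = 1 from
        funext fun i => by rw [Pi.pow_apply, ← Fintype.card_units, pow_card_eq_one, Pi.one_apply], map_one]
    have := pow_mem hA' (Fintype.card K - 1)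
    rw [hcomm.mul_pow, hHp, one_mul, hcard, show 4 * n - 1 = 4 * (n - 1) + 3 by omega, pow_add, pow_mul, h4,
      one_pow, one_mul] at this
    have h3 := inv_mem this
    rwa [inv_eq_of_mul_eq_one_right (show qw φ qq (1 : K) 0 ^ 3 * qw φ qq 1 0 = 1 by rw [← pow_succ]; exact h4)]
      at h3
  have hHM : H ∈ M := (Subgroup.mul_mem_cancel_right M ha).1 hA'
  -- the conjugate torus element
  have hHd : H ∈ chevF4.diagonalSubgroup K := hH_mem _
  set H' := N * H * N⁻¹ with hH'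
  obtain ⟨z', w', hc'⟩ := diag_tor φ hφ
    ((Subgroup.mem_normalizer_iff.1 (F4.ok.nW_normalizer l hl) H).1 hHd)
    (G.le_fixed (mul_mem (mul_mem hNG hHG) (inv_mem hNG)))
  have h24' : hchar F4.pk (tor φ z' w') 24 = ((μ⁻¹ : Kˣ) : K) := by
    rw [← w15, char_conj hl (show 15 < 48 by omega) hc'.symm, h15]
  have hconj : H' * pw φ (33, 24) 1 * H'⁻¹ = pw φ (33, 24) ((μ⁻¹ : Kˣ) : K) := by
    rw [hH', ← hN] at *
    rw [hc', tor_pw φ hφ, h24', mul_one]
  set s0 : K := 1 + ((μ⁻¹ : Kˣ) : K) with hs0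
  have hgM : pw φ (33, 24) s0 * H' ∈ M := by
    have : pw φ (33, 24) s0 * H' = pw φ (33, 24) 1 * N * H * (pw φ (33, 24) 1 * N)⁻¹ := by
      rw [hs0, ← pw_add, ← hconj, hH', mul_inv_rev (pw φ (33, 24) (1 : K)) N, pw_inv]
      group
    exact this ▸ mul_mem (mul_mem hB hHM) (inv_mem hB)
  have hHH' : Commute H H' := by
    rw [hH', hN, hc']
    exact (Commute.all (tor φ z w) (tor φ z' w')).map hH
  have hd0 : pw φ (33, 24) (((μ : K) + 1) * s0) ∈ M := by
    have : pw φ (33, 24) (((μ : K) + 1) * s0) = H * (pw φ (33, 24) s0 * H') * H⁻¹ * (pw φ (33, 24) s0 * H')⁻¹ := by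
      rw [show H * (pw φ (33, 24) s0 * H') * H⁻¹ = (H * pw φ (33, 24) s0 * H⁻¹) * (H * H' * H⁻¹) by group, hH_def,
        tor_pw φ hφ, ← hH_def, h24, hHH'.eq, mul_inv_cancel_right, mul_inv_rev, ← mul_assoc, mul_inv_cancel_right,
        pw_inv, pw_add]
      congr 1
      ring
    exact this ▸ mul_mem (mul_mem (mul_mem hHM hgM) (inv_mem hHM)) (inv_mem hgM)
  have hne : ((μ : K) + 1) * s0 ≠ 0 := by
    refine mul_ne_zero (fun h => hμ1 ?_) (fun h => hμ1 ?_)
    · rw [← CharTwo.neg_eq (1 : K)]; exact eq_neg_of_add_eq_zero_left h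
    · have h1 : ((μ⁻¹ : Kˣ) : K) = 1 := by
        rw [← CharTwo.neg_eq (1 : K)]; exact eq_neg_of_add_eq_zero_right h
      rw [Units.val_inv_eq_inv_val, inv_eq_one] at h1
      exact h1
  have hP : ∀ t, pw φ (33, 24) t ∈ M := by
    let S : AddSubgroup K :=
      { carrier := {u | pw φ (33, 24) u ∈ M}
        add_mem' := fun {u v} hu hv => by
          show pw φ (33, 24) (u + v) ∈ M
          rw [← pw_add]; exact mul_mem hu hv
        zero_mem' := by show pw φ (33, 24) 0 ∈ M; rw [pw_zero]; exact one_mem _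
        neg_mem' := fun {u} hu => by
          show pw φ (33, 24) (-u) ∈ M
          rw [neg_eq]; exact hu }
    refine TwoGen.full_of_gen hμgen (k := 1) (by simp) S _ hne (fun i => ?_)
    show pw φ (33, 24) _ ∈ M
    induction i with
    | zero => rwa [pow_zero, one_mul]
    | succ i ih =>
      rw [zpow_one] at ih ⊢
      rw [pow_succ', mul_assoc, ← h24, ← tor_pw φ hφ]
      exact mul_mem (mul_mem hHM (h24 ▸ ih)) (inv_mem hHM)
  have hNM : N ∈ M := (Subgroup.mul_mem_cancel_left M (hP 1)).1 hB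
  -- the second root class
  obtain ⟨z1, w1, hc1⟩ := diag_tor φ hφ (d := N⁻¹ * H * N)
    (by have := (Subgroup.mem_normalizer_iff.1 (inv_mem (F4.ok.nW_normalizer (F := K) l hl)) H).1 hHd
        rwa [inv_inv] at this)
    (G.le_fixed (mul_mem (mul_mem (inv_mem hNG) hHG) hNG))
  have hK0 : hH (tor φ z1 w1) ∈ M := hc1 ▸ mul_mem (mul_mem (inv_mem hNM) hHM) hNM
  have h25' : hchar F4.pk (tor φ z1 w1) 25 = ((μ⁻¹ : Kˣ) : K) := by
    rw [← char_conj hl (show 25 < 48 by omega) (c := tor φ z1 w1) (c' := tor φ z w)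
      (by rw [← hc1, ← hN, ← hH_def]; group), w25, h21]
  have hQ : ∀ t u, qw φ qq t u ∈ M := by
    let S : AddSubgroup K :=
      { carrier := {t | ∃ u, qw φ qq t u ∈ M}
        add_mem' := fun {s t} hs ht => by
          obtain ⟨u, hu⟩ := hs
          obtain ⟨v, hv⟩ := ht
          exact ⟨_, qw_mul φ hφ qq_mem s u t v ▸ mul_mem hu hv⟩
        zero_mem' := ⟨0, by rw [qw_zero]; exact one_mem _⟩
        neg_mem' := fun {t} ht => by
          show ∃ u, qw φ qq (-t) u ∈ M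
          rw [neg_eq]; exact ht }
    have hgen' : ∀ x : Kˣ, x ∈ Subgroup.zpowers μ⁻¹ := fun x => Subgroup.zpowers_inv (g := μ) ▸ hμgen x
    have hall : ∀ t, t ∈ S := TwoGen.full_of_gen hgen' (k := 1) (by simp) S 1 one_ne_zero (fun i => by
      show ∃ u, qw φ qq _ u ∈ M
      induction i with
      | zero => exact ⟨0, by rwa [pow_zero, one_mul]⟩
      | succ i ih =>
        obtain ⟨u, hu⟩ := ih
        rw [zpow_one] at hu ⊢
        refine ⟨hchar F4.pk (tor φ z1 w1) 28 * u, ?_⟩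
        rw [pow_succ', mul_assoc, ← h25', ← tor_qw φ hφ]
        exact mul_mem (mul_mem hK0 (h25' ▸ hu)) (inv_mem hK0))
    have h0 : ∀ v, qw φ qq 0 v ∈ M := fun v => by
      obtain ⟨t, rfl⟩ := prod_surj φ hφ v
      obtain ⟨u, hu⟩ := hall t
      have := mul_mem hu hu
      rwa [qw_mul φ hφ qq_mem, CharTwo.add_self_eq_zero, CharTwo.add_self_eq_zero, zero_add] at this
    intro t u
    obtain ⟨v, hv⟩ := hall t
    have := mul_mem hv (h0 (v + u))
    rwa [qw_mul φ hφ qq_mem, add_zero, mul_zero, add_zero, ← add_assoc, CharTwo.add_self_eq_zero, zero_add] at this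
  -- the opposite root classes
  set l4 : List ℕ := [0, 3, 1, 2, 1, 2] ++ [0, 3, 1, 2, 1, 2] ++ [0, 3, 1, 2, 1, 2] ++ [0, 3, 1, 2, 1, 2]
    with hl4_def
  have hl4 : WordOk F4.pk l4 := fun i hi => by
    show i < 4
    simp [hl4_def] at hi
    omega
  set N4 := F4.ok.nW (F := K) l4 with hN4
  have e4 : N4 = N * N * N * N := by
    rw [hN4, show l4 = l ++ l ++ l ++ l from rfl, F4.ok.nW_append, F4.ok.nW_append, F4.ok.nW_append]
  have hN4M : N4 ∈ M := e4 ▸ mul_mem (mul_mem (mul_mem hNM hNM) hNM) hNM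
  have hN4G : N4 ∈ G.G1 := e4 ▸ mul_mem (mul_mem (mul_mem hNG hNG) hNG) hNG
  have back : ∀ g, N4 * g * N4⁻¹ ∈ M → g ∈ M := fun g hg => by
    have := mul_mem (mul_mem (inv_mem hN4M) hg) hN4M
    rwa [show N4⁻¹ * (N4 * g * N4⁻¹) * N4 = g by group] at this
  have move : ∀ (L : List ℕ) {r : ℕ}, r < 48 → wl F4.pk l4 r ∈ L → ∀ t : K,
      N4 * x r t * N4⁻¹ ∈ F4.ok.genR (F := K) (fun r => r ∈ L) := by
    intro L r hr hmem t
    obtain ⟨σ, -, hx⟩ := F4.ok.nW_xG (F := K) l4 hl4 r hr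
    rw [hN4, x, (hx t).1]
    exact F4.ok.xG_mem_genR hmem _
  refine gens_le φ e hφe (fun p hp t => ?_) (fun q hq t u => ?_)
  · simp only [pairs, List.mem_cons, List.not_mem_nil, or_false] at hp
    rcases hp with rfl | rfl
    · exact hP t
    · refine back _ ?_
      have hf : N4 * pw φ (14, 23) t * N4⁻¹ ∈ (T φ).fixed :=
        G.le_fixed (mul_mem (mul_mem hN4G (hG ▸ pw_mem φ e hφe (by decide) t)) (inv_mem hN4G))
      have hR : N4 * pw φ (14, 23) t * N4⁻¹ ∈ F4.ok.genR (F := K) (fun r => r ∈ [(33 : ℕ), 24]) := by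
        rw [pw, ← MulAut.conj_apply, map_mul, MulAut.conj_apply, MulAut.conj_apply]
        exact mul_mem (move _ (by omega) (by rw [w14]; simp) _) (move _ (by omega) (by rw [w23]; simp) _)
      obtain ⟨s, hs⟩ := pair_class φ hφ ⟨hR, hf⟩
      rw [hs]; exact hP s
  · simp only [quads, List.mem_cons, List.not_mem_nil, or_false] at hq
    rcases hq with rfl | rfl
    · exact hQ t u
    · refine back _ ?_
      have hf : N4 * qw φ (20, 22, 19, 17) t u * N4⁻¹ ∈ (T φ).fixed :=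
        G.le_fixed (mul_mem (mul_mem hN4G (hG ▸ qw_mem φ e hφe (by decide) t u)) (inv_mem hN4G))
      have hR : N4 * qw φ (20, 22, 19, 17) t u * N4⁻¹ ∈
          F4.ok.genR (F := K) (fun r => r ∈ [(25 : ℕ), 27, 28, 30]) := by
        rw [qw, nf, ← MulAut.conj_apply]
        simp only [map_mul, MulAut.conj_apply]
        exact mul_mem (mul_mem (move _ (by omega) (by rw [w20]; simp) _) (move _ (by omega) (by rw [w22]; simp) _))
          (mul_mem (move _ (by omega) (by rw [w19]; simp) _) (move _ (by omega) (by rw [w17]; simp) _))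
      obtain ⟨s, v, hs⟩ := quad_class φ hφ ⟨hR, hf⟩
      rw [hs]; exact hQ s v

end Cfsg.Agent.Chev.TwF4
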