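/-
Generation of Chevalley groups by the monomial subgroup and a few fundamental root subgroups.
-/
import Cfsg.Agent.Lib.CurtisTits.Present
import Cfsg.Agent.Lib.Chev.Aut.Main

set_option autoImplicit false
set_option linter.unusedSectionVars false
set_option maxHeartbeats 1000000

namespace Cfsg.Agent.Chev.MonoGen

open Cfsg.Agent.Chev Cfsg.Lie
open Cfsg.Agent.Chev.Aut (lgB isLong_eq)
open Cfsg.Agent.Chev.CT (rhsW)

/-- One round among fundamental roots: joined by a single bond. -/
def sRound (P : Pk) (T : List ℕ) : List ℕ :=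
  (List.range P.rank).filter fun k => T.contains k ||
    T.any fun j => Nat.beq (P.w j (P.w k (P.sim j))) (P.sim k)

/-- Several rounds. -/
def sRounds (P : Pk) : ℕ → List ℕ → List ℕ
  | 0, T => T
  | n + 1, T => sRounds P n (sRound P T)

/-- All fundamental roots are joined to the given one by single bonds. -/
def ckJoin (P : Pk) : Bool :=
  (List.range P.rank).all fun i => (List.range P.rank).all fun k => (sRounds P P.rank [i]).contains k

/-- One round among roots: reflections and one-term commutators with allowed constants. -/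
def rRound (P : Pk) (cs : List ℤ) (R : List ℕ) : List ℕ :=
  P.allRoots.filter fun k => R.contains k ||
    ((List.range P.rank).any fun j => Nat.blt k P.nroots && R.any fun a => Nat.beq (P.w j a) k) ||
    R.any fun r => R.any fun s => !Nat.beq s r && !Nat.beq s (P.ng r) &&
      match P.cterms r s with
      | [e] => Nat.beq e.1 k && Nat.beq e.2.2.1 1 && Nat.beq e.2.2.2 1 && cs.contains e.2.1
      | _ => false

/-- Several rounds. -/
def rRounds (P : Pk) (cs : List ℤ) : ℕ → List ℕ → List ℕ
  | 0, R => R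
  | n + 1, R => rRounds P cs n (rRound P cs R)

/-- Every short fundamental root reaches every fundamental root. -/
def ckShort (P : Pk) (cs : List ℤ) (n : ℕ) : Bool :=
  (List.range P.rank).all fun i => lgB P (P.sim i) ||
    let R := rRounds P cs n [P.sim i]
    (List.range P.rank).all fun k => R.contains (P.sim k)

/-- A bonded short and long pair reach every fundamental root. -/
def ckBond (P : Pk) (n : ℕ) : Bool :=
  (List.range P.rank).all fun i => lgB P (P.sim i) || (List.range P.rank).all fun j =>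
    !lgB P (P.sim j) || decide (P.A i (P.sim j) * P.A j (P.sim i) = 0) ||
      let R := rRounds P [] n [P.sim i, P.sim j]
      (List.range P.rank).all fun k => R.contains (P.sim k)

variable {D : ChevalleyDatum} {P : Pk} {K : Type*} [Field K] (h : CT.Full D P)
  {M : Subgroup (GL D.Idx K)} (hM : D.monomialSubgroup K ≤ M)
include h hM

/-- The root subgroup lies in `M`. -/
def Good (h : CT.Full D P) (M : Subgroup (GL D.Idx K)) (r : ℕ) : Prop := ∀ t : K, h.okD.xG r t ∈ M

theorem good_w {j r : ℕ} (hj : j < P.rank) (hr : r < P.nroots) (hg : Good h M r) : Good h M (P.w j r) := by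
  intro t
  have hsq : (P.eta j r : K) * P.eta j r = 1 := by rw [← Int.cast_mul, CT.eta_sq, Int.cast_one]
  have e := h.okD.nG_xG hj hr ((P.eta j r : K) * t)
  rw [← mul_assoc, hsq, one_mul] at e
  rw [← e]
  exact mul_mem (mul_mem (hM (h.okD.nG_mem hj)) (hg _)) (inv_mem (hM (h.okD.nG_mem hj)))

theorem group_le (hs : ∀ k < P.rank, Good h M (P.sim k)) : D.group K ≤ M :=
  h.okD.group_le fun r hr t => h.okD.root_induction (Q := fun r => Good h M r) hs
    (fun i hi r hr hm => good_w h hM hi hr hm) r hr t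

theorem sRounds_good : ∀ (n : ℕ) (T : List ℕ), (∀ k ∈ T, k < P.rank ∧ Good h M (P.sim k)) →
    ∀ k ∈ sRounds P n T, k < P.rank ∧ Good h M (P.sim k)
  | 0, T, hT, k, hk => hT k hk
  | n + 1, T, hT, k, hk => by
    refine sRounds_good n (sRound P T) (fun k hk => ?_) k hk
    simp only [sRound, List.mem_filter, List.mem_range, Bool.or_eq_true, List.any_eq_true, List.contains_iff_mem,
      nbeq, decide_eq_true_eq] at hk
    obtain ⟨hk, hk' | ⟨j, hj, e⟩⟩ := hk
    · exact hT k hk'
    · obtain ⟨hjr, hjg⟩ := hT j hj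
      refine ⟨hk, ?_⟩
      rw [← e]
      exact good_w h hM hjr (h.okD.w_lt hk (h.okD.sim_lt hjr)) (good_w h hM hk (h.okD.sim_lt hjr) hjg)

theorem rRounds_good (cs : List ℤ) (hcs : ∀ c ∈ cs, (c : K) ≠ 0) : ∀ (n : ℕ) (R : List ℕ),
    (∀ r ∈ R, r < P.nroots ∧ Good h M r) → ∀ k ∈ rRounds P cs n R, k < P.nroots ∧ Good h M k
  | 0, R, hR, k, hk => hR k hk
  | n + 1, R, hR, k, hk => by
    refine rRounds_good cs hcs n (rRound P cs R) (fun k hk => ?_) k hk
    simp only [rRound, List.mem_filter, Pk.mem_allRoots, Bool.or_eq_true, List.any_eq_true, List.mem_range,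
      List.contains_iff_mem, Bool.and_eq_true, Bool.not_eq_true', nbeq, decide_eq_true_eq, decide_eq_false_iff_not,
      Nat.blt_eq] at hk
    obtain ⟨hk, (hk' | ⟨j, hj, -, a, ha, e⟩) | ⟨r, hr, s, hs, ⟨hsr, hsn⟩, hm⟩⟩ := hk
    · exact hR k hk'
    · exact ⟨hk, e ▸ good_w h hM hj (hR a ha).1 (hR a ha).2⟩
    · split at hm
      next c hc =>
        simp only [Bool.and_eq_true, nbeq, decide_eq_true_eq, List.contains_iff_mem] at hm
        obtain ⟨⟨⟨h1, h2⟩, h3⟩, h4⟩ := hm
        refine ⟨hk, fun t => ?_⟩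
        have e := CT.chev_comm h (hR r hr).1 (hR s hs).1 hsr hsn (-(t / (c.2.1 : K))) 1
        rw [rhsW, hc] at e
        simp only [List.map_cons, List.map_nil, List.prod_cons, List.prod_nil, mul_one, h1, h2, h3, neg_neg,
          pow_one, mul_div_cancel₀ _ (hcs _ h4)] at e
        rw [← e]
        have m1 := (hR r hr).2 (-(t / (c.2.1 : K)))
        have m2 := (hR s hs).2 (1 : K)
        exact mul_mem (mul_mem (mul_mem (inv_mem m2) (inv_mem m1)) m2) m1
      next => simp at hm

omit hM in
theorem good_root {i : ℕ} (hi : i < P.rank) (hX : D.rootSubgroup K (D.simple i) ≤ M) : Good h M (P.sim i) := by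
  intro t
  refine hX (Subgroup.subset_closure ⟨t, ?_⟩)
  rw [h.okD.simple_eq hi]
  exact h.okD.coe_xG _ _

theorem of_join (hck : ckJoin P = true) {i : ℕ} (hi : i < P.rank) (hX : D.rootSubgroup K (D.simple i) ≤ M) :
    D.group K ≤ M := by
  simp only [ckJoin, List.all_eq_true, List.mem_range, List.contains_iff_mem] at hck
  refine group_le h hM fun k hk => (sRounds_good h hM _ [i] (fun a ha => ?_) k (hck i hi k hk)).2
  rw [List.mem_singleton.1 ha]
  exact ⟨hi, good_root h hi hX⟩

theorem of_short {cs : List ℤ} {n : ℕ} (hck : ckShort P cs n = true) (hcs : ∀ c ∈ cs, (c : K) ≠ 0) {i : ℕ}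
    (hi : i < P.rank) (hs : D.isLong (D.simple i) = false) (hX : D.rootSubgroup K (D.simple i) ≤ M) :
    D.group K ≤ M := by
  rw [h.okD.simple_eq hi, isLong_eq h.okD (h.okD.sim_lt hi)] at hs
  simp only [ckShort, List.all_eq_true, List.mem_range, Bool.or_eq_true, List.contains_iff_mem] at hck
  have := (hck i hi).resolve_left (by rw [hs]; simp)
  refine group_le h hM fun k hk => (rRounds_good h hM cs hcs _ [P.sim i] (fun a ha => ?_) _ (this k hk)).2
  rw [List.mem_singleton.1 ha]
  exact ⟨h.okD.sim_lt hi, good_root h hi hX⟩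

theorem of_bond {n : ℕ} (hck : ckBond P n = true) {i j : ℕ} (hi : i < P.rank) (hj : j < P.rank)
    (hs : D.isLong (D.simple i) = false) (hl : D.isLong (D.simple j) = true) (hb : D.bonds i j ≠ 0)
    (hX : D.rootSubgroup K (D.simple i) ≤ M) (hY : D.rootSubgroup K (D.simple j) ≤ M) : D.group K ≤ M := by
  rw [h.okD.simple_eq hi, isLong_eq h.okD (h.okD.sim_lt hi)] at hs
  rw [h.okD.simple_eq hj, isLong_eq h.okD (h.okD.sim_lt hj)] at hl
  rw [ChevalleyDatum.bonds, h.okD.simple_eq hi, h.okD.simple_eq hj, h.okD.cartan_eq hi (h.okD.sim_lt hj),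
    h.okD.cartan_eq hj (h.okD.sim_lt hi)] at hb
  simp only [ckBond, List.all_eq_true, List.mem_range, Bool.or_eq_true, List.contains_iff_mem,
    Bool.not_eq_true', decide_eq_true_eq] at hck
  have := ((hck i hi).resolve_left (by rw [hs]; simp) j hj).resolve_left (by rw [hl]; simp [hb])
  refine group_le h hM fun k hk =>
    (rRounds_good h hM [] (by simp) _ [P.sim i, P.sim j] (fun a ha => ?_) _ (this k hk)).2
  rcases List.mem_cons.1 ha with rfl | ha
  · exact ⟨h.okD.sim_lt hi, good_root h hi hX⟩
  · rw [List.mem_singleton.1 ha]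
    exact ⟨h.okD.sim_lt hj, good_root h hj hY⟩

end Cfsg.Agent.Chev.MonoGen
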