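/-
Table checks for generation by the monomial subgroup and root subgroups.
-/
import Cfsg.Agent.Lib.Chev.Gen.MonoGen
import Cfsg.Agent.Lib.CurtisTits.UniGenMain

set_option autoImplicit false
set_option maxHeartbeats 1000000

namespace Cfsg.Agent.Chev.MonoGen

open Cfsg.Agent.Chev Cfsg.Lie

theorem ckJoin_E6 : ckJoin E6.pk = true := by decide +kernel
theorem ckJoin_E7 : ckJoin E7.pk = true := by decide +kernel
theorem ckJoin_E8 : ckJoin E8.pk = true := by decide +kernel
theorem ckJoin_D4 : ckJoin D4.pk = true := by decide +kernel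
theorem ckShort_B2 : ckShort B2.pk [1, -1, 2, -2] 4 = true := by decide +kernel
theorem ckShort_F4 : ckShort F4.pk [1, -1, 2, -2] 5 = true := by decide +kernel
theorem ckShort_G2 : ckShort G2.pk [1, -1, 3, -3] 4 = true := by decide +kernel
theorem ckBond_B2 : ckBond B2.pk 3 = true := by decide +kernel
theorem ckBond_F4 : ckBond F4.pk 5 = true := by decide +kernel
theorem ckBond_G2 : ckBond G2.pk 3 = true := by decide +kernel

theorem cast_ne_zero {K : Type*} [Field K] {p : ℕ} (hp : p.Prime) (hc : ringChar K ≠ p) (c : ℤ)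
    (hc' : c ∈ [1, -1, (p : ℤ), -(p : ℤ)]) : (c : K) ≠ 0 := by
  have h : (p : K) ≠ 0 := fun e => by
    rw [ringChar.spec] at e
    exact hc ((Nat.prime_dvd_prime_iff_eq (CharP.char_prime_of_ne_zero K fun h0 => by simp [h0, hp.ne_zero] at e)
      hp).1 e)
  simp only [List.mem_cons, List.not_mem_nil, or_false] at hc'
  rcases hc' with rfl | rfl | rfl | rfl <;> simp [h]

end Cfsg.Agent.Chev.MonoGen
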