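/-
Two elements generating ³D₄(q).
-/
import Cfsg.Agent.Lib.Chev.TwD4Thm
import Cfsg.Agent.Lib.Chev.Gen.TwoGenMain

set_option autoImplicit false
set_option linter.unusedSectionVars false
set_option maxHeartbeats 800000

namespace Cfsg.Agent.Chev.TwD4

open Cfsg.Lie
open scoped Matrix

theorem genTables :
    (wl D4.pk [1, 0, 2, 3] 14 = 23 ∧ wl D4.pk [1, 0, 2, 3] 17 = 18 ∧
      wl D4.pk [1, 0, 2, 3, 1, 0, 2, 3, 1, 0, 2, 3] 9 = 14 ∧
      [5, 10, 11].map (wl D4.pk [1, 0, 2, 3, 1, 0, 2, 3, 1, 0, 2, 3]) = [18, 13, 12]) ∧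
    [14, 23, 18, 13, 12, 17].map (fun r => (List.range 4).map fun i => D4.pk.A i r) =
      [[-1, 2, -1, -1], [0, 1, 0, 0], [2, -1, 0, 0], [0, -1, 2, 0], [0, -1, 0, 2], [-1, 0, 1, 1]] ∧
    ([5, 9, 10, 11, 12, 13, 14, 17, 18, 23].all fun r => Nat.blt r D4.pk.nroots) = true ∧
    ([12, 13, 14, 18, 23].all fun r => D4.pk.isPos r) = true := by decide +kernel

variable {K : Type*} [Field K] [Fintype K] {q : ℕ} {φ : K →+* K} (hφ : ∀ t, φ t = t ^ q)
  (hK : Fintype.card K = q ^ 3) (hq : IsPrimePow q)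
  (G : TwistGrp (T φ)) (hG : G.G1 = twistedD4 K q) (hO : G.O.orbs = D4.orbsT)

/-- The torus parameters attached to a unit. -/
noncomputable def tC (φ : K →+* K) : Kˣ →* (Fin 4 → Kˣ) where
  toFun z := ![z, 1, Units.map φ.toMonoidHom z, Units.map φ.toMonoidHom (Units.map φ.toMonoidHom z)]
  map_one' := by funext i; fin_cases i <;> simp
  map_mul' a b := by funext i; fin_cases i <;> simp

/-- The short root element. -/
noncomputable def dT (φ : K →+* K) (t : K) : GL chevD4.Idx K :=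
  D4.ok.xG 18 t * D4.ok.xG 13 (φ t) * D4.ok.xG 12 (φ (φ t))

theorem dT_add (s t : K) : dT φ s * dT φ t = dT φ (s + t) := by
  obtain ⟨o1, o2, o3⟩ := orth 18 (by simp) 13 (by simp) 12 (by simp)
  simp only [dT, map_add, ← D4.ok.xG_add]
  set A := D4.ok.xG 18 s
  set B := D4.ok.xG 13 (φ s)
  set C := D4.ok.xG 12 (φ (φ s))
  set A' := D4.ok.xG 18 t
  set B' := D4.ok.xG 13 (φ t)
  have hAC : Commute A' C := D4.ok.commute_xG ckComm_D4 o2 _ _
  have hAB : Commute A' B := D4.ok.commute_xG ckComm_D4 o1 _ _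
  have hBC : Commute B' C := D4.ok.commute_xG ckComm_D4 o3 _ _
  rw [show A * B * C * (A' * B' * D4.ok.xG 12 (φ (φ t))) = A * B * (C * A') * B' * D4.ok.xG 12 (φ (φ t)) by group,
    ← hAC.eq, show A * B * (A' * C) * B' * D4.ok.xG 12 (φ (φ t)) =
      A * (B * A') * (C * B') * D4.ok.xG 12 (φ (φ t)) by group, ← hAB.eq, ← hBC.eq]
  group

theorem dT_zero : dT φ (0 : K) = 1 := by simp [dT, D4.ok.xG_zero]

theorem dT_neg (t : K) : (dT φ t)⁻¹ = dT φ (-t) :=
  inv_eq_of_mul_eq_one_right (by rw [dT_add, add_neg_cancel, dT_zero])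

theorem chars (z : Kˣ) :
    hchar D4.pk (tC φ z) 23 = 1 ∧
    hchar D4.pk (tC φ z) 14 = ((z : K) * φ z * φ (φ z))⁻¹ ∧
    hchar D4.pk (tC φ z) 18 = (z : K) * z ∧ hchar D4.pk (tC φ z) 13 = φ z * φ z ∧
    hchar D4.pk (tC φ z) 12 = φ (φ z) * φ (φ z) ∧
    hchar D4.pk (tC φ z) 17 = (z : K)⁻¹ * φ z * φ (φ z) := by
  have hA := genTables.2.1
  simp [List.range_succ] at hA
  obtain ⟨⟨a1, a2, a3, a4⟩, ⟨b1, b2, b3, b4⟩, ⟨c1, c2, c3, c4⟩, ⟨d1, d2, d3, d4⟩, ⟨e1, e2, e3, e4⟩,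
    ⟨f1, f2, f3, f4⟩⟩ := hA
  refine ⟨?_, ?_, ?_, ?_, ?_, ?_⟩ <;>
    (show ∏ i : Fin 4, _ = _
     rw [Fin.prod_univ_four]
     simp [tC, a1, a2, a3, a4, b1, b2, b3, b4, c1, c2, c3, c4, d1, d2, d3, d4, e1, e2, e3, e4, f1, f2, f3, f4,
       zpow_two, mul_inv] <;> ring)

include hφ hK in
theorem tC_fixed (z : Kˣ) : (T φ).τ (tC φ z) = tC φ z := by
  refine (tau_apply φ _).trans ?_
  funext k
  fin_cases k <;> apply Units.ext <;> simp [tC, phi3 φ hφ hK]

include hφ hK hq G hG hO in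
theorem two_gen :
    ∃ a b : ↥(twistedD4 K q), Subgroup.closure ({a, b} : Set ↥(twistedD4 K q)) = ⊤ := by
  classical
  obtain ⟨⟨w14, w17, w9, w5⟩, -, hlt, hpos⟩ := genTables
  simp only [List.map_cons, List.map_nil, List.cons.injEq, and_true] at w5
  obtain ⟨w5, w10, w11⟩ := w5
  simp only [List.all_cons, List.all_nil, Bool.and_true, Bool.and_eq_true, Nat.blt_eq] at hlt hpos
  obtain ⟨r5, r9, r10, r11, r12, r13, r14, r17, r18, r23⟩ := hlt
  obtain ⟨p12, p13, p14, p18, p23⟩ := hpos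
  have hc := cks
  simp only [Bool.and_eq_true] at hc
  obtain ⟨⟨⟨⟨⟨k14, -⟩, -⟩, k23⟩, k3⟩, -⟩ := hc
  have hq2 := hq.two_le
  set l : List ℕ := [1, 0, 2, 3] with hl_def
  have hl : WordOk D4.pk l := fun i hi => by
    show i < 4
    simp [hl_def] at hi
    omega
  set N := D4.ok.nW (F := K) l with hN
  have hNG : N ∈ G.G1 := by
    rw [hN, show l = [1] ++ [0, 2, 3] from rfl, D4.ok.nW_append]
    exact mul_mem (G.nW_mem ([1], [1]) (by rw [hO]; decide)) (G.nW_mem ([0, 2, 3], [0, 2, 3]) (by rw [hO]; decide))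
  obtain ⟨lam, hlam⟩ := IsCyclic.exists_generator (α := Kˣ)
  have hord : orderOf lam = q ^ 3 - 1 := by
    rw [orderOf_eq_card_of_forall_mem_zpowers hlam, Nat.card_eq_fintype_card, Fintype.card_units, hK]
  let HH : Kˣ →* GL chevD4.Idx K := hH.comp (tC φ)
  have hHG : ∀ z, HH z ∈ G.G1 := fun z => by rw [hG]; exact hHom_fixed_mem φ hφ (tC_fixed hφ hK z)
  have hHx : ∀ (z : Kˣ) {r : ℕ}, r < D4.pk.nroots → ∀ t : K,
      HH z * D4.ok.xG r t * (HH z)⁻¹ = D4.ok.xG r (hchar D4.pk (tC φ z) r * t) :=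
    fun z r hr t => D4.ok.hHom_xG (tC φ z) hr t
  set H := HH lam with hH_def
  have hHdT : ∀ (z : Kˣ) (t : K), HH z * dT φ t * (HH z)⁻¹ = dT φ ((z : K) * z * t) := by
    intro z t
    obtain ⟨-, -, e18, e13, e12, -⟩ := chars (φ := φ) z
    rw [dT, dT, show ∀ d a b c : GL chevD4.Idx K, d * (a * b * c) * d⁻¹ =
      (d * a * d⁻¹) * (d * b * d⁻¹) * (d * c * d⁻¹) by intros; group, hHx z r18, hHx z r13, hHx z r12,
      e18, e13, e12]
    simp only [map_mul]
  have hx23 : D4.ok.xG 23 (1 : K) ∈ G.G1 :=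
    G.pos_fixed_le ckComm_D4 ⟨D4.ok.xG_mem_pos p23 _, Std.xG_fixed ckG_D4a φ k23 (map_one φ)⟩
  have hdG : ∀ t, dT φ t ∈ G.G1 := fun t => by
    rw [hG]; exact gen3 φ hφ (rs := (d4p1, d4p3, d4p4)) (by simp) t
  set M := Subgroup.closure ({H * D4.ok.xG 23 (1 : K), dT φ 1 * N} : Set (GL chevD4.Idx K)) with hM
  have hA : H * D4.ok.xG 23 (1 : K) ∈ M := Subgroup.subset_closure (Set.mem_insert _ _)
  have hB : dT φ 1 * N ∈ M := Subgroup.subset_closure (Set.mem_insert_of_mem _ rfl)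
  refine TwoGen.closure_pair (hG ▸ mul_mem (hHG lam) hx23) (hG ▸ mul_mem (hdG 1) hNG) ?_
  show twistedD4 K q ≤ M
  -- separate the first generator
  have hcomm : Commute H (D4.ok.xG 23 (1 : K)) := by
    have := hHx lam r23 1
    rw [(chars (φ := φ) lam).1, one_mul, mul_inv_eq_iff_eq_mul] at this
    exact this
  have hx1 : D4.ok.xG 23 (1 : K) ∈ M := by
    have hpow : ∀ n : ℕ, D4.ok.xG 23 (1 : K) ^ n = D4.ok.xG 23 (n : K) := fun n => by
      induction n with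
      | zero => rw [pow_zero, Nat.cast_zero, D4.ok.xG_zero]
      | succ n ih => rw [pow_succ, ih, D4.ok.xG_add, Nat.cast_succ]
    have hcast : ((Fintype.card K - 1 : ℕ) : K) = -1 := by
      rw [Nat.cast_sub Fintype.card_pos, Nat.cast_one, FiniteField.cast_card_eq_zero, zero_sub]
    have hHp : H ^ (Fintype.card K - 1) = 1 := by
      rw [hH_def, ← map_pow, ← Fintype.card_units, pow_card_eq_one, map_one]
    have := pow_mem hA (Fintype.card K - 1)
    rw [hcomm.mul_pow, hHp, one_mul, hpow, hcast, ← D4.ok.xG_inv] at this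
    exact inv_mem_iff.1 this
  have hHM : H ∈ M := (Subgroup.mul_mem_cancel_right M hx1).1 hA
  have hallH : ∀ z, HH z ∈ M := fun z => by
    obtain ⟨n, hn⟩ := Subgroup.mem_zpowers_iff.1 (hlam z)
    rw [← hn, map_zpow]
    exact zpow_mem hHM n
  -- the conjugate torus element
  set H' := N * H * N⁻¹ with hH'
  have hdiag : ∀ c : Fin 4 → Kˣ, D4.ok.hHom c ∈ chevD4.diagonalSubgroup K := fun c =>
    D4.ok.mem_diagonal_iff.2 ⟨c, rfl⟩
  obtain ⟨c', hc'⟩ := D4.ok.mem_diagonal_iff.1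
    ((Subgroup.mem_normalizer_iff.1 (D4.ok.nW_normalizer l hl) H).1 (hdiag (tC φ lam)))
  have hH'x : ∀ {r : ℕ}, r < D4.pk.nroots → ∀ t : K,
      H' * D4.ok.xG r t * H'⁻¹ = D4.ok.xG r (hchar D4.pk c' r * t) := by
    intro r hr t
    rw [hH', ← hN] at *
    rw [← hc']
    exact D4.ok.hHom_xG c' hr t
  set μ' : K := hchar D4.pk c' 18 with hμ'
  have hμ : μ' = hchar D4.pk (tC φ lam) 17 := by
    obtain ⟨σ, hσ, hx⟩ := D4.ok.nW_xG (F := K) l hl 17 r17
    have e1 : ∀ t, N * D4.ok.xG 17 t * N⁻¹ = D4.ok.xG 18 (σ * t) := fun t => by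
      rw [hN, (hx t).1, w17]
    have e2 := hH'x r18 (σ * 1)
    rw [← e1, hH', show ∀ n h x : GL chevD4.Idx K, n * h * n⁻¹ * (n * x * n⁻¹) * (n * h * n⁻¹)⁻¹ =
      n * (h * x * h⁻¹) * n⁻¹ by intros; group, hH_def, hHx lam r17, e1, mul_one, mul_one] at e2
    have := D4.ok.xG_inj_param r18 e2
    have hσ0 : σ ≠ 0 := fun e => by simp [e] at hσ
    exact (mul_right_cancel₀ hσ0 ((mul_comm _ σ).trans this)).symm
  have hμne : μ' ≠ 1 := by
    rw [hμ, (chars (φ := φ) lam).2.2.2.2.2, hφ, hφ, ← pow_mul]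
    intro e
    have e2 : lam ^ (q + q * q) = lam := by
      apply Units.ext
      rw [Units.val_pow_eq_pow_val, pow_add]
      rw [mul_assoc, inv_mul_eq_iff_eq_mul₀ lam.ne_zero, mul_one] at e
      exact e
    have e3 : lam ^ (q + q * q - 1) = 1 := by
      have h' : lam ^ (q + q * q - 1) * lam = 1 * lam := by
        rw [← pow_succ, one_mul, show q + q * q - 1 + 1 = q + q * q by omega, e2]
      exact mul_right_cancel h'
    have hd := Nat.le_of_dvd (by omega) (hord ▸ orderOf_dvd_of_pow_eq_one e3)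
    have h8 : q + q * q < q ^ 3 := by
      rw [pow_three]
      nlinarith [Nat.mul_le_mul_left (q * q) hq2, Nat.mul_le_mul_left q hq2]
    omega
  -- a non-trivial short root element
  have hH'G : H' ∈ G.G1 := mul_mem (mul_mem hNG (hHG lam)) (inv_mem hNG)
  have hconj : H' * dT φ (-1) * H'⁻¹ = dT φ (μ' * -1) := by
    set g := H' * dT φ (-1) * H'⁻¹ with hg
    have hgf : g ∈ (T φ).fixed := G.le_fixed (mul_mem (mul_mem hH'G (hdG _)) (inv_mem hH'G))
    have hgeq : g = D4.ok.xG 18 (μ' * -1) * D4.ok.xG 13 (hchar D4.pk c' 13 * φ (-1)) *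
        D4.ok.xG 12 (hchar D4.pk c' 12 * φ (φ (-1))) := by
      rw [hg, dT, show ∀ d a b c : GL chevD4.Idx K, d * (a * b * c) * d⁻¹ =
        (d * a * d⁻¹) * (d * b * d⁻¹) * (d * c * d⁻¹) by intros; group, hH'x r18, hH'x r13, hH'x r12]
    have hgR : g ∈ D4.ok.genR (fun r => r ∈ ([18, 13, 12] : List ℕ)) := by
      rw [hgeq]
      exact mul_mem (mul_mem (D4.ok.xG_mem_genR (by simp) _) (D4.ok.xG_mem_genR (by simp) _))
        (D4.ok.xG_mem_genR (by simp) _)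
    obtain ⟨t, ht⟩ := Std.fixed_triple ckG_D4a φ ckComm_D4 p18 p13 p12 k3 ⟨hgR, hgf⟩
    obtain ⟨o1, o2, o3⟩ := orth 18 (by simp) 13 (by simp) 12 (by simp)
    obtain ⟨e, -, -⟩ := Std.triple_unique ckComm_D4 p18 p13 p12 o1 o3 o2 (hgeq.symm.trans ht)
    rw [ht, e]
    rfl
  set s0 : K := 1 + μ' * -1 with hs0
  have hgM : dT φ s0 * H' ∈ M := by
    have : dT φ s0 * H' = dT φ 1 * N * H * (dT φ 1 * N)⁻¹ := by
      rw [hs0, ← dT_add, ← hconj, ← dT_neg, hH']
      group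
    exact this ▸ mul_mem (mul_mem hB hHM) (inv_mem hB)
  have hHH' : Commute H H' := by
    rw [hH', ← hc']
    exact (Commute.all (tC φ lam) c').map D4.ok.hHom
  have hd0 : dT φ (((lam : K) * lam - 1) * s0) ∈ M := by
    have : dT φ (((lam : K) * lam - 1) * s0) = H * (dT φ s0 * H') * H⁻¹ * (dT φ s0 * H')⁻¹ := by
      rw [show H * (dT φ s0 * H') * H⁻¹ = (H * dT φ s0 * H⁻¹) * (H * H' * H⁻¹) by group, hH_def, hHdT,
        ← hH_def, hHH'.eq, mul_inv_cancel_right, mul_inv_rev, ← mul_assoc, mul_inv_cancel_right, dT_neg, dT_add]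
      congr 1
      ring
    exact this ▸ mul_mem (mul_mem (mul_mem hHM hgM) (inv_mem hHM)) (inv_mem hgM)
  have hne0 : ((lam : K) * lam - 1) * s0 ≠ 0 := by
    refine mul_ne_zero (sub_ne_zero.2 fun e => ?_) ?_
    · have e3 : lam ^ 2 = 1 := Units.ext (by simpa [pow_two] using e)
      have hd := Nat.le_of_dvd (by norm_num) (hord ▸ orderOf_dvd_of_pow_eq_one e3)
      have h8 : 2 ^ 3 ≤ q ^ 3 := Nat.pow_le_pow_left hq2 3
      omega
    · rw [hs0, mul_neg, mul_one, ← sub_eq_add_neg]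
      exact sub_ne_zero.2 (Ne.symm hμne)
  have hD : ∀ t, dT φ t ∈ M := by
    let S : AddSubgroup K :=
      { carrier := {u | dT φ u ∈ M}
        add_mem' := fun {u v} hu hv => by
          show dT φ (u + v) ∈ M
          rw [← dT_add]; exact mul_mem hu hv
        zero_mem' := by show dT φ 0 ∈ M; rw [dT_zero]; exact one_mem _
        neg_mem' := fun {u} hu => by
          show dT φ (-u) ∈ M
          rw [← dT_neg]; exact inv_mem hu }
    refine TwoGen.full_of_gen hlam (k := 2) (by simp) S _ hne0 (fun n => ?_)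
    show dT φ _ ∈ M
    induction n with
    | zero => rwa [pow_zero, one_mul]
    | succ n ih =>
      rw [zpow_two, Units.val_mul] at ih ⊢
      rw [pow_succ', mul_assoc, ← hHdT]
      exact mul_mem (mul_mem hHM ih) (inv_mem hHM)
  have hNM : N ∈ M := (Subgroup.mul_mem_cancel_left M (hD 1)).1 hB
  -- the long root subgroup
  have h14 : ∀ t, φ t = t → D4.ok.xG 14 t ∈ M := by
    obtain ⟨σ, hσ, hx⟩ := D4.ok.nW_xG (F := K) l hl 14 r14
    have e1 : N⁻¹ * D4.ok.xG 23 1 * N = D4.ok.xG 14 σ := by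
      have := (hx σ).1
      rw [w14, hσ, ← hN] at this
      rw [← this]; group
    have hsM : D4.ok.xG 14 σ ∈ M := e1 ▸ mul_mem (mul_mem (inv_mem hNM) hx1) hNM
    have hσf : φ σ = σ := by
      rcases mul_self_eq_one_iff.1 hσ with e | e <;> simp [e]
    intro t ht
    rcases eq_or_ne t 0 with rfl | t0
    · rw [D4.ok.xG_zero]; exact one_mem _
    have hσ0 : σ ≠ 0 := fun e => by simp [e] at hσ
    set u : Kˣ := Units.mk0 (t / σ) (div_ne_zero t0 hσ0) with hu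
    obtain ⟨n, hn⟩ : ∃ n : ℕ, lam ^ n = u := by
      have := hlam u
      rwa [← mem_powers_iff_mem_zpowers, Submonoid.mem_powers_iff] at this
    have huq : u ^ q = u := Units.ext (by
      rw [Units.val_pow_eq_pow_val, hu, Units.val_mk0, ← hφ, map_div₀, ht, hσf])
    have huq1 : lam ^ (n * (q - 1)) = 1 := by
      rw [pow_mul, hn]
      have h' : u ^ (q - 1) * u = 1 * u := by
        rw [← pow_succ, show q - 1 + 1 = q by omega, huq, one_mul]
      exact mul_right_cancel h'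
    obtain ⟨m, hm⟩ : (1 + q + q * q) ∣ n := by
      have h2 := hord ▸ orderOf_dvd_of_pow_eq_one huq1
      rw [show q ^ 3 - 1 = (1 + q + q * q) * (q - 1) by
        obtain ⟨p, rfl⟩ : ∃ p, q = p + 1 := ⟨q - 1, by omega⟩
        have : (p + 1) ^ 3 = (1 + (p + 1) + (p + 1) * (p + 1)) * p + 1 := by ring
        simp only [Nat.add_sub_cancel]
        omega] at h2
      exact Nat.dvd_of_mul_dvd_mul_right (by omega) h2
    set z : Kˣ := (lam ^ m)⁻¹
    have key : hchar D4.pk (tC φ z) 14 = (u : K) := by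
      rw [(chars (φ := φ) z).2.1, ← hn, hm, hφ, hφ, ← pow_mul, ← pow_succ' ,
        show ((z : K)) = (((lam : K) ^ m))⁻¹ by simp [z]]
      simp only [inv_pow, ← mul_inv, inv_inv, Units.val_pow_eq_pow_val, ← pow_mul, ← pow_add]
      congr 1
      ring
    have := mul_mem (mul_mem (hallH z) hsM) (inv_mem (hallH z))
    rwa [hHx z r14, key, hu, Units.val_mk0, div_mul_cancel₀ _ hσ0] at this
  -- the negative root subgroups
  set l3 : List ℕ := [1, 0, 2, 3, 1, 0, 2, 3, 1, 0, 2, 3] with hl3_def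
  have hl3 : WordOk D4.pk l3 := fun i hi => by
    show i < 4
    simp [hl3_def] at hi
    omega
  set N3 := D4.ok.nW (F := K) l3 with hN3
  have e3 : N3 = N * N * N := by
    rw [hN3, show l3 = l ++ l ++ l from rfl, D4.ok.nW_append, D4.ok.nW_append]
  have hN3M : N3 ∈ M := e3 ▸ mul_mem (mul_mem hNM hNM) hNM
  have hN3G : N3 ∈ G.G1 := e3 ▸ mul_mem (mul_mem hNG hNG) hNG
  have back : ∀ g, N3 * g * N3⁻¹ ∈ M → g ∈ M := fun g hg => by
    have := mul_mem (mul_mem (inv_mem hN3M) hg) hN3M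
    rwa [show N3⁻¹ * (N3 * g * N3⁻¹) * N3 = g by group] at this
  have h9 : ∀ t, t ^ q = t → D4.ok.xG 9 t ∈ M := by
    intro t ht
    refine back _ ?_
    have hfx : N3 * D4.ok.xG 9 t * N3⁻¹ ∈ (T φ).fixed :=
      G.le_fixed (mul_mem (mul_mem hN3G (hG ▸ gen1 (by decide) ht)) (inv_mem hN3G))
    obtain ⟨σ, -, hx⟩ := D4.ok.nW_xG (F := K) l3 hl3 9 r9
    rw [← hN3] at hx
    rw [(hx t).1, w9] at hfx ⊢
    obtain ⟨s, hs, e⟩ := Std.fixed_single ckG_D4a φ p14 k14 ⟨D4.ok.xG_mem_genR (by simp) _, hfx⟩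
    rw [e]; exact h14 s hs
  have h5 : ∀ t, D4.ok.xG 5 t * D4.ok.xG 10 (φ t) * D4.ok.xG 11 (φ (φ t)) ∈ M := by
    intro t
    refine back _ ?_
    set g := D4.ok.xG 5 t * D4.ok.xG 10 (φ t) * D4.ok.xG 11 (φ (φ t)) with hg
    have hgG : g ∈ G.G1 := by rw [hG]; exact gen3 φ hφ (rs := (d4m1, d4m3, d4m4)) (by simp) t
    have hfx : N3 * g * N3⁻¹ ∈ (T φ).fixed := G.le_fixed (mul_mem (mul_mem hN3G hgG) (inv_mem hN3G))
    have hR : N3 * g * N3⁻¹ ∈ D4.ok.genR (fun r => r ∈ ([18, 13, 12] : List ℕ)) := by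
      rw [hg, show ∀ d a b c : GL chevD4.Idx K, d * (a * b * c) * d⁻¹ =
        (d * a * d⁻¹) * (d * b * d⁻¹) * (d * c * d⁻¹) by intros; group]
      obtain ⟨σa, -, hxa⟩ := D4.ok.nW_xG (F := K) l3 hl3 5 r5
      obtain ⟨σb, -, hxb⟩ := D4.ok.nW_xG (F := K) l3 hl3 10 r10
      obtain ⟨σc, -, hxc⟩ := D4.ok.nW_xG (F := K) l3 hl3 11 r11
      rw [← hN3] at hxa hxb hxc
      rw [(hxa _).1, (hxb _).1, (hxc _).1, w5, w10, w11]
      exact mul_mem (mul_mem (D4.ok.xG_mem_genR (by simp) _) (D4.ok.xG_mem_genR (by simp) _))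
        (D4.ok.xG_mem_genR (by simp) _)
    obtain ⟨s, hs⟩ := Std.fixed_triple ckG_D4a φ ckComm_D4 p18 p13 p12 k3 ⟨hR, hfx⟩
    rw [hs]; exact hD s
  refine (Subgroup.closure_le _).2 fun g hg => gens (P' := fun g => g ∈ M) (fun r hr t ht => ?_)
    (fun rs hr t => ?_) hg
  · simp only [List.mem_cons, List.not_mem_nil, or_false] at hr
    rcases hr with rfl | rfl
    · exact h14 t ((hφ t).trans ht)
    · exact h9 t ht
  · rw [show t ^ q ^ 2 = φ (φ t) by rw [hφ, hφ, ← pow_mul, sq], ← hφ]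
    simp only [List.mem_cons, List.not_mem_nil, or_false] at hr
    rcases hr with rfl | rfl
    · exact hD t
    · exact h5 t

end Cfsg.Agent.Chev.TwD4
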