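/-
Two elements generating ²E₆(q).
-/
import Cfsg.Agent.Lib.Chev.TwE6
import Cfsg.Agent.Lib.Chev.Gen.TwoGenMain

set_option autoImplicit false
set_option linter.unusedSectionVars false
set_option maxHeartbeats 800000

namespace Cfsg.Agent.Chev.TwE6

open Cfsg.Lie
open scoped Matrix

/-- A Coxeter word of the relative Weyl group. -/
def cxW : List ℕ := [1, 3, 2, 4, 0, 5]

theorem genTables :
    (wl E6.pk cxW 41 = 42 ∧
      [(5, 46), (11, 25), (4, 39), (10, 32)].map (fun x => wl E6.pk (List.replicate x.1 cxW).flatten x.2) =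
        [63, 63, 63, 63] ∧
      [(11, 56), (11, 36), (5, 15), (5, 35), (6, 29), (6, 34)].all (fun x =>
        [42, 37].contains (wl E6.pk (List.replicate x.1 cxW).flatten x.2)) = true) ∧
    [46, 63, 42, 37, 41].map (fun r => (List.range 6).map fun i => E6.pk.A i r) =
      [[0, 2, 0, -1, 0, 0], [1, 1, 0, -1, 0, 1], [-1, 0, 2, -1, 0, 0], [0, 0, 0, -1, 2, -1],
       [0, -1, -1, 1, 0, 1]] ∧
    ([46, 25, 39, 32, 63, 56, 36, 15, 35, 42, 37, 29, 34, 41].all fun r => Nat.blt r E6.pk.nroots) = true ∧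
    ([46, 63, 42, 37].all fun r => E6.pk.isPos r) = true ∧
    ck1 E6.pk gE6 63 = true := by decide +kernel

variable {K : Type*} [Field K] [Fintype K] {q : ℕ} {φ : K →+* K} (hφ : ∀ t, φ t = t ^ q)
  (hK : Fintype.card K = q ^ 2) (hq : IsPrimePow q)
  (G : TwistGrp (T φ)) (hG : G.G1 = twistedE6 K q) (hO : G.O.orbs = E6.orbsT)

/-- The torus parameters attached to a unit. -/
noncomputable def tC (φ : K →+* K) : Kˣ →* (Fin 6 → Kˣ) where
  toFun z := ![z, 1, 1, 1, 1, Units.map φ.toMonoidHom z]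
  map_one' := by funext i; fin_cases i <;> simp
  map_mul' a b := by funext i; fin_cases i <;> simp

/-- The short root element. -/
noncomputable def dT (φ : K →+* K) (t : K) : GL chevE6.Idx K :=
  E6.ok.xG 42 t * E6.ok.xG 37 (φ t)

theorem orth42 : ckOrth E6.pk 42 37 = true := by
  have ho := orth
  simp only [Bool.and_eq_true] at ho
  exact ho.1.1.1.2

theorem dT_add (s t : K) : dT φ s * dT φ t = dT φ (s + t) := by
  simp only [dT, map_add, ← E6.ok.xG_add]
  exact (E6.ok.commute_xG ckComm_E6 orth42 t (φ s)).symm.mul_mul_mul_comm _ _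

theorem dT_zero : dT φ (0 : K) = 1 := by simp [dT, E6.ok.xG_zero]

theorem dT_neg (t : K) : (dT φ t)⁻¹ = dT φ (-t) :=
  inv_eq_of_mul_eq_one_right (by rw [dT_add, add_neg_cancel, dT_zero])

theorem charsTC (z : Kˣ) :
    hchar E6.pk (tC φ z) 46 = 1 ∧ hchar E6.pk (tC φ z) 63 = (z : K) * φ z ∧
    hchar E6.pk (tC φ z) 42 = (z : K)⁻¹ ∧ hchar E6.pk (tC φ z) 37 = (φ z)⁻¹ ∧
    hchar E6.pk (tC φ z) 41 = φ z := by
  have hA := genTables.2.1
  simp [List.range_succ] at hA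
  obtain ⟨⟨a1, a2, a3, a4, a5, a6⟩, ⟨b1, b2, b3, b4, b5, b6⟩, ⟨c1, c2, c3, c4, c5, c6⟩,
    ⟨d1, d2, d3, d4, d5, d6⟩, ⟨e1, e2, e3, e4, e5, e6⟩⟩ := hA
  refine ⟨?_, ?_, ?_, ?_, ?_⟩ <;>
    (show ∏ i : Fin 6, _ = _
     rw [Fin.prod_univ_six]
     simp [tC, a1, a2, a3, a4, a5, a6, b1, b2, b3, b4, b5, b6, c1, c2, c3, c4, c5, c6, d1, d2, d3, d4, d5, d6,
       e1, e2, e3, e4, e5, e6])

include hφ hK in
theorem tC_fixed (z : Kˣ) : (T φ).τ (tC φ z) = tC φ z := by
  refine (tau_apply φ _).trans ?_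
  funext k
  fin_cases k <;> apply Units.ext <;> simp [tC, phi2 φ hφ hK]

include hφ hK hq G hG hO in
theorem two_gen :
    ∃ a b : ↥(twistedE6 K q), Subgroup.closure ({a, b} : Set ↥(twistedE6 K q)) = ⊤ := by
  classical
  obtain ⟨⟨w41, wlong, wshort⟩, -, hlt, hpos, k63⟩ := genTables
  simp only [List.map_cons, List.map_nil, List.cons.injEq, and_true] at wlong
  obtain ⟨w46, w25, w39, w32⟩ := wlong
  simp only [List.all_cons, List.all_nil, Bool.and_true, Bool.and_eq_true, Nat.blt_eq, List.contains_iff_mem]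
    at hlt hpos wshort
  obtain ⟨r46, r25, r39, r32, r63, r56, r36, r15, r35, r42, r37, r29, r34, r41⟩ := hlt
  obtain ⟨p46, p63, p42, p37⟩ := hpos
  obtain ⟨s56, s36, s15, s35, s29, s34⟩ := wshort
  have hc := cks
  simp only [Bool.and_eq_true] at hc
  obtain ⟨⟨⟨⟨⟨⟨⟨⟨k46, -⟩, -⟩, -⟩, -⟩, -⟩, -⟩, k3⟩, -⟩ := hc
  have hq2 := hq.two_le
  set l : List ℕ := cxW with hl_def
  have hl : WordOk E6.pk l := fun i hi => by
    show i < 6
    simp [hl_def, cxW] at hi
    omega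
  set N := E6.ok.nW (F := K) l with hN
  have hNG : N ∈ G.G1 := by
    rw [hN, hl_def, show cxW = [1] ++ ([3] ++ ([2, 4] ++ [0, 5])) from rfl, E6.ok.nW_append, E6.ok.nW_append,
      E6.ok.nW_append]
    exact mul_mem (G.nW_mem ([1], [1]) (by rw [hO]; decide)) (mul_mem (G.nW_mem ([3], [3]) (by rw [hO]; decide))
      (mul_mem (G.nW_mem ([2, 4], [2, 4]) (by rw [hO]; decide)) (G.nW_mem ([0, 5], [0, 5]) (by rw [hO]; decide))))
  obtain ⟨lam, hlam⟩ := IsCyclic.exists_generator (α := Kˣ)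
  have hord : orderOf lam = q ^ 2 - 1 := by
    rw [orderOf_eq_card_of_forall_mem_zpowers hlam, Nat.card_eq_fintype_card, Fintype.card_units, hK]
  let HH : Kˣ →* GL chevE6.Idx K := hH.comp (tC φ)
  have hHG : ∀ z, HH z ∈ G.G1 := fun z => by rw [hG]; exact hHom_fixed_mem φ hφ (tC_fixed hφ hK z)
  have hHx : ∀ (z : Kˣ) {r : ℕ}, r < E6.pk.nroots → ∀ t : K,
      HH z * E6.ok.xG r t * (HH z)⁻¹ = E6.ok.xG r (hchar E6.pk (tC φ z) r * t) :=
    fun z r hr t => E6.ok.hHom_xG (tC φ z) hr t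
  set H := HH lam with hH_def
  have hHdT : ∀ (z : Kˣ) (t : K), HH z * dT φ t * (HH z)⁻¹ = dT φ ((z : K)⁻¹ * t) := by
    intro z t
    obtain ⟨-, -, e42, e37, -⟩ := charsTC (φ := φ) z
    rw [dT, dT, show ∀ d a b : GL chevE6.Idx K, d * (a * b) * d⁻¹ =
      (d * a * d⁻¹) * (d * b * d⁻¹) by intros; group, hHx z r42, hHx z r37, e42, e37]
    simp only [map_mul, map_inv₀]
  have hx46 : E6.ok.xG 46 (1 : K) ∈ G.G1 :=
    G.pos_fixed_le ckComm_E6 ⟨E6.ok.xG_mem_pos p46 _, Std.xG_fixed ckG_E6 φ k46 (map_one φ)⟩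
  have hdG : ∀ t, dT φ t ∈ G.G1 := fun t => by
    rw [hG]; exact gen2 φ hφ (rs := (e6p3, e6p5)) (by simp) t
  set M := Subgroup.closure ({H * E6.ok.xG 46 (1 : K), dT φ 1 * N} : Set (GL chevE6.Idx K)) with hM
  have hA : H * E6.ok.xG 46 (1 : K) ∈ M := Subgroup.subset_closure (Set.mem_insert _ _)
  have hB : dT φ 1 * N ∈ M := Subgroup.subset_closure (Set.mem_insert_of_mem _ rfl)
  refine TwoGen.closure_pair (hG ▸ mul_mem (hHG lam) hx46) (hG ▸ mul_mem (hdG 1) hNG) ?_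
  show twistedE6 K q ≤ M
  -- separate the first generator
  have hcomm : Commute H (E6.ok.xG 46 (1 : K)) := by
    have := hHx lam r46 1
    rw [(charsTC (φ := φ) lam).1, one_mul, mul_inv_eq_iff_eq_mul] at this
    exact this
  have hx1 : E6.ok.xG 46 (1 : K) ∈ M := by
    have hpow : ∀ n : ℕ, E6.ok.xG 46 (1 : K) ^ n = E6.ok.xG 46 (n : K) := fun n => by
      induction n with
      | zero => rw [pow_zero, Nat.cast_zero, E6.ok.xG_zero]
      | succ n ih => rw [pow_succ, ih, E6.ok.xG_add, Nat.cast_succ]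
    have hcast : ((Fintype.card K - 1 : ℕ) : K) = -1 := by
      rw [Nat.cast_sub Fintype.card_pos, Nat.cast_one, FiniteField.cast_card_eq_zero, zero_sub]
    have hHp : H ^ (Fintype.card K - 1) = 1 := by
      rw [hH_def, ← map_pow, ← Fintype.card_units, pow_card_eq_one, map_one]
    have := pow_mem hA (Fintype.card K - 1)
    rw [hcomm.mul_pow, hHp, one_mul, hpow, hcast, ← E6.ok.xG_inv] at this
    exact inv_mem_iff.1 this
  have hHM : H ∈ M := (Subgroup.mul_mem_cancel_right M hx1).1 hA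
  have hallH : ∀ z, HH z ∈ M := fun z => by
    obtain ⟨n, hn⟩ := Subgroup.mem_zpowers_iff.1 (hlam z)
    rw [← hn, map_zpow]
    exact zpow_mem hHM n
  -- the conjugate torus element
  set H' := N * H * N⁻¹ with hH'
  have hdiag : ∀ c : Fin 6 → Kˣ, E6.ok.hHom c ∈ chevE6.diagonalSubgroup K := fun c =>
    E6.ok.mem_diagonal_iff.2 ⟨c, rfl⟩
  obtain ⟨c', hc'⟩ := E6.ok.mem_diagonal_iff.1
    ((Subgroup.mem_normalizer_iff.1 (E6.ok.nW_normalizer l hl) H).1 (hdiag (tC φ lam)))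
  have hH'x : ∀ {r : ℕ}, r < E6.pk.nroots → ∀ t : K,
      H' * E6.ok.xG r t * H'⁻¹ = E6.ok.xG r (hchar E6.pk c' r * t) := by
    intro r hr t
    rw [hH', ← hN] at *
    rw [← hc']
    exact E6.ok.hHom_xG c' hr t
  set μ' : K := hchar E6.pk c' 42 with hμ'
  have hμ : μ' = φ (lam : K) := by
    obtain ⟨σ, hσ, hx⟩ := E6.ok.nW_xG (F := K) l hl 41 r41
    have e1 : ∀ t, N * E6.ok.xG 41 t * N⁻¹ = E6.ok.xG 42 (σ * t) := fun t => by
      rw [hN, (hx t).1, w41]
    have e2 := hH'x r42 (σ * 1)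
    rw [← e1, hH', show ∀ n h x : GL chevE6.Idx K, n * h * n⁻¹ * (n * x * n⁻¹) * (n * h * n⁻¹)⁻¹ =
      n * (h * x * h⁻¹) * n⁻¹ by intros; group, hH_def, hHx lam r41, e1, mul_one, mul_one] at e2
    have := E6.ok.xG_inj_param r42 e2
    have hσ0 : σ ≠ 0 := fun e => by simp [e] at hσ
    rw [← (charsTC (φ := φ) lam).2.2.2.2]
    exact (mul_right_cancel₀ hσ0 ((mul_comm _ σ).trans this)).symm
  have hlam1 : (lam : K) ≠ 1 := fun e => by
    rw [show lam = 1 from Units.ext e, orderOf_one] at hord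
    have h8 : 2 ^ 2 ≤ q ^ 2 := Nat.pow_le_pow_left hq2 2
    omega
  have hμne : μ' ≠ 1 := by
    rw [hμ, ← map_one φ]
    exact fun e => hlam1 (φ.injective e)
  -- a non-trivial short root element
  have hH'G : H' ∈ G.G1 := mul_mem (mul_mem hNG (hHG lam)) (inv_mem hNG)
  have hconj : H' * dT φ (-1) * H'⁻¹ = dT φ (μ' * -1) := by
    set g := H' * dT φ (-1) * H'⁻¹ with hg
    have hgf : g ∈ (T φ).fixed := G.le_fixed (mul_mem (mul_mem hH'G (hdG _)) (inv_mem hH'G))
    have hgeq : g = E6.ok.xG 42 (μ' * -1) * E6.ok.xG 37 (hchar E6.pk c' 37 * φ (-1)) := by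
      rw [hg, dT, show ∀ d a b : GL chevE6.Idx K, d * (a * b) * d⁻¹ =
        (d * a * d⁻¹) * (d * b * d⁻¹) by intros; group, hH'x r42, hH'x r37]
    have hgR : g ∈ E6.ok.genR (fun r => r ∈ ([42, 37] : List ℕ)) := by
      rw [hgeq]
      exact mul_mem (E6.ok.xG_mem_genR (by simp) _) (E6.ok.xG_mem_genR (by simp) _)
    obtain ⟨t, ht⟩ := Std.fixed_pair ckG_E6 φ ckComm_E6 p42 p37 k3 ⟨hgR, hgf⟩
    obtain ⟨e, -⟩ := Std.pair_unique ckComm_E6 p42 p37 orth42 (hgeq.symm.trans ht)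
    rw [ht, e]
    rfl
  set s0 : K := 1 + μ' * -1 with hs0
  have hgM : dT φ s0 * H' ∈ M := by
    have : dT φ s0 * H' = dT φ 1 * N * H * (dT φ 1 * N)⁻¹ := by
      rw [hs0, ← dT_add, ← hconj, ← dT_neg, hH']
      group
    exact this ▸ mul_mem (mul_mem hB hHM) (inv_mem hB)
  have hHH' : Commute H H' := by
    rw [hH', ← hc']
    exact (Commute.all (tC φ lam) c').map E6.ok.hHom
  have hd0 : dT φ (((lam : K)⁻¹ - 1) * s0) ∈ M := by
    have : dT φ (((lam : K)⁻¹ - 1) * s0) = H * (dT φ s0 * H') * H⁻¹ * (dT φ s0 * H')⁻¹ := by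
      rw [show H * (dT φ s0 * H') * H⁻¹ = (H * dT φ s0 * H⁻¹) * (H * H' * H⁻¹) by group, hH_def, hHdT,
        ← hH_def, hHH'.eq, mul_inv_cancel_right, mul_inv_rev, ← mul_assoc, mul_inv_cancel_right, dT_neg, dT_add]
      congr 1
      ring
    exact this ▸ mul_mem (mul_mem (mul_mem hHM hgM) (inv_mem hHM)) (inv_mem hgM)
  have hne0 : ((lam : K)⁻¹ - 1) * s0 ≠ 0 := by
    refine mul_ne_zero (sub_ne_zero.2 fun e => hlam1 (inv_eq_one.1 e)) ?_
    rw [hs0, mul_neg, mul_one, ← sub_eq_add_neg]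
    exact sub_ne_zero.2 (Ne.symm hμne)
  have hD : ∀ t, dT φ t ∈ M := by
    let S : AddSubgroup K :=
      { carrier := {u | dT φ u ∈ M}
        add_mem' := fun {u v} hu hv => by
          show dT φ (u + v) ∈ M
          rw [← dT_add]; exact mul_mem hu hv
        zero_mem' := by show dT φ 0 ∈ M; rw [dT_zero]; exact one_mem _
        neg_mem' := fun {u} hu => by
          show dT φ (-u) ∈ M
          rw [← dT_neg]; exact inv_mem hu }
    refine TwoGen.full_of_gen hlam (k := -1) (by simp) S _ hne0 (fun n => ?_)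
    show dT φ _ ∈ M
    induction n with
    | zero => rwa [pow_zero, one_mul]
    | succ n ih =>
      rw [zpow_neg_one, Units.val_inv_eq_inv_val] at ih ⊢
      rw [pow_succ', mul_assoc, ← hHdT]
      exact mul_mem (mul_mem hHM ih) (inv_mem hHM)
  have hNM : N ∈ M := (Subgroup.mul_mem_cancel_left M (hD 1)).1 hB
  have hpowN : ∀ k : ℕ, N ^ k = E6.ok.nW (List.replicate k l).flatten := fun k => by
    induction k with
    | zero => simp [E6.ok.nW_nil]
    | succ k ih => rw [pow_succ', ih, List.replicate_succ, List.flatten_cons, E6.ok.nW_append]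
  -- the long root subgroup
  have h63 : ∀ t, φ t = t → E6.ok.xG 63 t ∈ M := by
    obtain ⟨σ, hσ, hx⟩ := E6.ok.nW_xG (F := K) _ (E6.ok.wordOk_flatten hl 5) 46 r46
    have e1 : N ^ 5 * E6.ok.xG 46 1 * (N ^ 5)⁻¹ = E6.ok.xG 63 σ := by
      rw [hpowN, (hx 1).1, w46, mul_one]
    have hsM : E6.ok.xG 63 σ ∈ M := e1 ▸ mul_mem (mul_mem (pow_mem hNM 5) hx1) (inv_mem (pow_mem hNM 5))
    have hσf : φ σ = σ := by
      rcases mul_self_eq_one_iff.1 hσ with e | e <;> simp [e]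
    intro t ht
    rcases eq_or_ne t 0 with rfl | t0
    · rw [E6.ok.xG_zero]; exact one_mem _
    have hσ0 : σ ≠ 0 := fun e => by simp [e] at hσ
    set u : Kˣ := Units.mk0 (t / σ) (div_ne_zero t0 hσ0) with hu
    obtain ⟨n, hn⟩ : ∃ n : ℕ, lam ^ n = u := by
      have := hlam u
      rwa [← mem_powers_iff_mem_zpowers, Submonoid.mem_powers_iff] at this
    have huq : u ^ q = u := Units.ext (by
      rw [Units.val_pow_eq_pow_val, hu, Units.val_mk0, ← hφ, map_div₀, ht, hσf])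
    have huq1 : lam ^ (n * (q - 1)) = 1 := by
      rw [pow_mul, hn]
      have h' : u ^ (q - 1) * u = 1 * u := by
        rw [← pow_succ, show q - 1 + 1 = q by omega, huq, one_mul]
      exact mul_right_cancel h'
    obtain ⟨m, hm⟩ : (q + 1) ∣ n := by
      have h2 := hord ▸ orderOf_dvd_of_pow_eq_one huq1
      rw [show q ^ 2 - 1 = (q + 1) * (q - 1) from by simpa using Nat.sq_sub_sq q 1] at h2
      exact Nat.dvd_of_mul_dvd_mul_right (by omega) h2
    set z : Kˣ := lam ^ m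
    have key : hchar E6.pk (tC φ z) 63 = (u : K) := by
      rw [(charsTC (φ := φ) z).2.1, ← hn, hm, hφ, ← pow_succ', show ((z : K)) = (lam : K) ^ m by simp [z],
        ← pow_mul, Units.val_pow_eq_pow_val, mul_comm]
    have := mul_mem (mul_mem (hallH z) hsM) (inv_mem (hallH z))
    rwa [hHx z r63, key, hu, Units.val_mk0, div_mul_cancel₀ _ hσ0] at this
  -- all generators, moved by powers of the Coxeter element
  have move : ∀ (k : ℕ) (L L' : List ℕ), (∀ r ∈ L, r < E6.pk.nroots) →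
      (∀ r ∈ L, wl E6.pk (List.replicate k l).flatten r ∈ L') →
      (∀ g ∈ (T φ).fixed, g ∈ E6.ok.genR (fun r => r ∈ L') → g ∈ M) →
      ∀ g ∈ G.G1, g ∈ E6.ok.genR (fun r => r ∈ L) → g ∈ M := by
    intro k L L' hL hw hall g hgG hgR
    have hle : E6.ok.genR (F := K) (fun r => r ∈ L) ≤
        (E6.ok.genR (fun r => r ∈ L')).comap (MulAut.conj (N ^ k)).toMonoidHom := by
      refine E6.ok.genR_le fun r hr t => ?_
      obtain ⟨σ, -, hx⟩ := E6.ok.nW_xG (F := K) _ (E6.ok.wordOk_flatten hl k) r (hL r hr)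
      rw [Subgroup.mem_comap, MulEquiv.toMonoidHom_eq_coe, MonoidHom.coe_coe, MulAut.conj_apply, hpowN, (hx t).1]
      exact E6.ok.xG_mem_genR (hw r hr) _
    have h1 := hall _ (G.le_fixed (mul_mem (mul_mem (pow_mem hNG k) hgG) (inv_mem (pow_mem hNG k))))
      (by simpa [-map_pow] using hle hgR)
    have h2 := mul_mem (mul_mem (inv_mem (pow_mem hNM k)) h1) (pow_mem hNM k)
    rwa [show (N ^ k)⁻¹ * (N ^ k * g * (N ^ k)⁻¹) * N ^ k = g by group] at h2
  have allL : ∀ g ∈ (T φ).fixed, g ∈ E6.ok.genR (fun r => r ∈ ([63] : List ℕ)) → g ∈ M := by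
    intro g hgf hgR
    obtain ⟨t, ht, rfl⟩ := Std.fixed_single ckG_E6 φ p63 k63 ⟨hgR, hgf⟩
    exact h63 t ht
  have allS : ∀ g ∈ (T φ).fixed, g ∈ E6.ok.genR (fun r => r ∈ ([42, 37] : List ℕ)) → g ∈ M := by
    intro g hgf hgR
    obtain ⟨t, rfl⟩ := Std.fixed_pair ckG_E6 φ ckComm_E6 p42 p37 k3 ⟨hgR, hgf⟩
    exact hD t
  refine (Subgroup.closure_le _).2 fun g hg => gens (P' := fun g => g ∈ M) (fun r hr t ht => ?_)
    (fun rs hr t => ?_) hg
  · have hgG : E6.ok.xG r t ∈ G.G1 := hG ▸ gen1 hr ht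
    have hmem := E6.ok.xG_mem_genR (F := K) (S := fun x => x ∈ [r]) (List.mem_singleton_self r) t
    simp only [List.mem_cons, List.not_mem_nil, or_false] at hr
    rcases hr with rfl | rfl | rfl | rfl
    · exact move 5 _ _ (by simpa using r46) (by simpa using w46) allL _ hgG hmem
    · exact move 11 _ _ (by simpa using r25) (by simpa using w25) allL _ hgG hmem
    · exact move 4 _ _ (by simpa using r39) (by simpa using w39) allL _ hgG hmem
    · exact move 10 _ _ (by simpa using r32) (by simpa using w32) allL _ hgG hmem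
  · rw [← hφ]
    have hgG : E6.ok.xG rs.1 t * E6.ok.xG rs.2 (φ t) ∈ G.G1 := hG ▸ gen2 φ hφ hr t
    have hmem : E6.ok.xG rs.1 t * E6.ok.xG rs.2 (φ t) ∈ E6.ok.genR (fun x => x ∈ [rs.1, rs.2]) :=
      mul_mem (E6.ok.xG_mem_genR (by simp) _) (E6.ok.xG_mem_genR (by simp) _)
    simp only [List.mem_cons, List.not_mem_nil, or_false] at hr
    rcases hr with rfl | rfl | rfl | rfl
    · exact move 11 _ _ (List.forall_mem_cons.2 ⟨r56, by simpa using r36⟩)
        (List.forall_mem_cons.2 ⟨s56, by simpa using s36⟩) allS _ hgG hmem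
    · exact move 5 _ _ (List.forall_mem_cons.2 ⟨r15, by simpa using r35⟩)
        (List.forall_mem_cons.2 ⟨s15, by simpa using s35⟩) allS _ hgG hmem
    · exact hD t
    · exact move 6 _ _ (List.forall_mem_cons.2 ⟨r29, by simpa using r34⟩)
        (List.forall_mem_cons.2 ⟨s29, by simpa using s34⟩) allS _ hgG hmem

end Cfsg.Agent.Chev.TwE6
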