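/-
Certificates for two-element generation.
-/
import Cfsg.Agent.Lib.Chev.Gen.TwoGenCheck
import Cfsg.Agent.Lib.Chev.AllC

set_option autoImplicit false
set_option maxHeartbeats 4000000
set_option maxRecDepth 100000

namespace Cfsg.Agent.Chev.TwoGen

open Cfsg.Agent.Chev

def cTG2 : List (ℕ × ℕ × ℕ × ℕ) := [(1,
  (3,
  (0, 7))),
  (3,
  (3,
  (0, 2))),
  (1,
  (0,
  (0, 5))),
  (1,
  (5,
  (0, 10))),
  (3,
  (2,
  (0, 4))),
  (1,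
  (7,
  (0, 9))),
  (0,
  (5,
  (4, 1))),
  (1,
  (9,
  (0, 8))),
  (1,
  (10,
  (0, 11))),
  (0,
  (11,
  (1, 6)))]

theorem ckTorus_G2 : ckTorus G2.pk [0, 1] 1 2 0 1 cTG2 = true := by decide +kernel

def cTB2 : List (ℕ × ℕ × ℕ × ℕ) := [(1,
  (3,
  (0, 7))),
  (3,
  (3,
  (0, 0))),
  (1,
  (1,
  (0, 5))),
  (1,
  (5,
  (0, 6))),
  (3,
  (0,
  (0, 4))),
  (0,
  (4,
  (1, 2)))]

theorem ckTorus_B2 : ckTorus B2.pk [0, 1] 1 0 1 1 cTB2 = true := by decide +kernel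

def cTD4 : List (ℕ × ℕ × ℕ × ℕ) := [(0,
  (21,
  (1, 11))),
  (1,
  (21,
  (0, 15))),
  (1,
  (1,
  (0, 18))),
  (0,
  (18,
  (15, 20))),
  (0,
  (18,
  (1, 6))),
  (0,
  (15,
  (11, 14))),
  (0,
  (15,
  (21, 23))),
  (3,
  (18,
  (0, 0))),
  (1,
  (15,
  (0, 13))),
  (3,
  (11,
  (0, 7))),
  (0,
  (7,
  (13, 9))),
  (0,
  (7,
  (14, 10))),
  (0,
  (13,
  (14, 16))),
  (0,
  (13,
  (6, 8))),
  (0,
  (13,
  (20, 22))),
  (0,
  (13,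
  (15, 17))),
  (0,
  (13,
  (1, 3))),
  (0,
  (0,
  (15, 2))),
  (0,
  (23,
  (6, 19))),
  (3,
  (13,
  (0, 12))),
  (3,
  (0,
  (0, 4))),
  (0,
  (4,
  (14, 5)))]

theorem ckTorus_D4 : ckTorus D4.pk [0, 1, 2, 3] 0 10 1 1 cTD4 = true := by decide +kernel

def cTF4 : List (ℕ × ℕ × ℕ × ℕ) := [(1,
  (15,
  (0, 21))),
  (3,
  (15,
  (0, 0))),
  (1,
  (7,
  (0, 8))),
  (1,
  (8,
  (0, 18))),
  (3,
  (0,
  (0, 1))),
  (1,
  (21,
  (0, 41))),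
  (1,
  (41,
  (0, 45))),
  (3,
  (1,
  (0, 2))),
  (1,
  (18,
  (0, 34))),
  (0,
  (2,
  (41, 16))),
  (0,
  (45,
  (1, 22))),
  (1,
  (34,
  (0, 37))),
  (3,
  (2,
  (0, 6))),
  (1,
  (45,
  (0, 46))),
  (0,
  (46,
  (6, 32))),
  (0,
  (46,
  (2, 25))),
  (0,
  (46,
  (0, 23))),
  (0,
  (46,
  (7, 35))),
  (0,
  (6,
  (34, 12))),
  (0,
  (6,
  (45, 31))),
  (0,
  (6,
  (18, 3))),
  (0,
  (6,
  (21, 4))),
  (1,
  (46,
  (0, 47))),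
  (3,
  (6,
  (0, 26))),
  (1,
  (37,
  (0, 44))),
  (0,
  (44,
  (4, 27))),
  (0,
  (44,
  (12, 38))),
  (0,
  (44,
  (6, 29))),
  (0,
  (44,
  (7, 33))),
  (0,
  (26,
  (37, 39))),
  (0,
  (26,
  (22, 24))),
  (0,
  (26,
  (41, 43))),
  (0,
  (26,
  (18, 20))),
  (0,
  (26,
  (8, 10))),
  (0,
  (26,
  (15, 17))),
  (0,
  (47,
  (15, 42))),
  (0,
  (4,
  (35, 11))),
  (0,
  (4,
  (25, 5))),
  (0,
  (4,
  (46, 30))),
  (0,
  (3,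
  (35, 9))),
  (0,
  (31,
  (35, 40))),
  (0,
  (12,
  (25, 13))),
  (0,
  (32,
  (18, 28))),
  (0,
  (32,
  (8, 14))),
  (0,
  (13,
  (42, 36))),
  (0,
  (42,
  (3, 19)))]

theorem ckTorus_F4 : ckTorus F4.pk [0, 1, 2, 3] 0 0 7 1 cTF4 = true := by decide +kernel

def cPD4 : List (ℕ × ℕ × ℕ × ℕ) := [(3,
  (18,
  (0, 1))),
  (0,
  (1,
  (18, 6))),
  (3,
  (1,
  (0, 9))),
  (0,
  (9,
  (1, 0))),
  (3,
  (9,
  (0, 5))),
  (2,
  (6,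
  (0, 19))),
  (0,
  (19,
  (5, 14))),
  (0,
  (5,
  (9, 4))),
  (3,
  (4,
  (0, 17))),
  (2,
  (14,
  (0, 22))),
  (3,
  (14,
  (0, 8))),
  (2,
  (18,
  (0, 10))),
  (0,
  (10,
  (22, 20))),
  (0,
  (10,
  (17, 15))),
  (0,
  (10,
  (4, 2))),
  (0,
  (10,
  (9, 7))),
  (0,
  (8,
  (17, 13))),
  (0,
  (8,
  (14, 11))),
  (0,
  (8,
  (5, 3))),
  (0,
  (22,
  (14, 23))),
  (1,
  (10,
  (0, 21))),
  (0,
  (21,
  (5, 16))),
  (0,
  (7,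
  (17, 12)))]

theorem ckPrime_D4 : ckPrime D4.pk [0, 1, 2, 3] 18 7 cPD4 = true := by decide +kernel

def cPF4 : List (ℕ × ℕ × ℕ × ℕ) := [(2,
  (25,
  (0, 24))),
  (3,
  (25,
  (0, 31))),
  (0,
  (31,
  (25, 32))),
  (0,
  (24,
  (25, 26))),
  (3,
  (31,
  (0, 43))),
  (2,
  (24,
  (0, 5))),
  (0,
  (5,
  (24, 6))),
  (0,
  (43,
  (31, 47))),
  (2,
  (5,
  (0, 17))),
  (0,
  (17,
  (5, 2))),
  (2,
  (17,
  (0, 4))),
  (0,
  (4,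
  (17, 1))),
  (2,
  (4,
  (0, 16))),
  (0,
  (16,
  (4, 0))),
  (2,
  (16,
  (0, 22))),
  (0,
  (22,
  (16, 15))),
  (0,
  (22,
  (43, 42))),
  (2,
  (22,
  (0, 23))),
  (0,
  (23,
  (42, 41))),
  (0,
  (23,
  (22, 21))),
  (0,
  (23,
  (47, 46))),
  (0,
  (23,
  (31, 30))),
  (2,
  (23,
  (0, 19))),
  (3,
  (42,
  (0, 9))),
  (0,
  (9,
  (19, 7))),
  (0,
  (9,
  (42, 33))),
  (0,
  (9,
  (22, 8))),
  (0,
  (9,
  (47, 39))),
  (0,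
  (9,
  (31, 14))),
  (0,
  (9,
  (24, 10))),
  (0,
  (19,
  (30, 27))),
  (0,
  (19,
  (46, 44))),
  (0,
  (19,
  (23, 18))),
  (0,
  (19,
  (5, 3))),
  (0,
  (19,
  (32, 29))),
  (0,
  (19,
  (25, 20))),
  (0,
  (30,
  (42, 45))),
  (3,
  (9,
  (0, 12))),
  (1,
  (19,
  (0, 11))),
  (0,
  (11,
  (44, 37))),
  (0,
  (11,
  (39, 28))),
  (0,
  (11,
  (42, 34))),
  (0,
  (11,
  (47, 40))),
  (0,
  (11,
  (43, 35))),
  (0,
  (11,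
  (26, 13))),
  (0,
  (12,
  (44, 38))),
  (0,
  (12,
  (43, 36)))]

theorem ckPrime_F4 : ckPrime F4.pk [0, 1, 2, 3] 25 3 cPF4 = true := by decide +kernel

def cTE6 : List (ℕ × ℕ × ℕ × ℕ) := [(1,
  (16,
  (0, 30))),
  (3,
  (16,
  (0, 1))),
  (1,
  (5,
  (0, 26))),
  (1,
  (26,
  (0, 57))),
  (3,
  (1,
  (0, 0))),
  (1,
  (30,
  (0, 61))),
  (1,
  (61,
  (0, 67))),
  (3,
  (0,
  (0, 4))),
  (1,
  (57,
  (0, 50))),
  (0,
  (50,
  (4, 12))),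
  (0,
  (4,
  (61, 27))),
  (0,
  (4,
  (57, 18))),
  (0,
  (67,
  (0, 22))),
  (1,
  (50,
  (0, 64))),
  (3,
  (4,
  (0, 10))),
  (1,
  (67,
  (0, 71))),
  (0,
  (71,
  (10, 55))),
  (0,
  (71,
  (18, 63))),
  (0,
  (71,
  (4, 49))),
  (0,
  (71,
  (1, 46))),
  (0,
  (10,
  (64, 40))),
  (0,
  (10,
  (50, 15))),
  (0,
  (10,
  (67, 44))),
  (0,
  (10,
  (57, 24))),
  (0,
  (10,
  (26, 3))),
  (0,
  (10,
  (30, 6))),
  (0,
  (64,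
  (18, 56))),
  (0,
  (64,
  (12, 47))),
  (0,
  (64,
  (4, 29))),
  (0,
  (64,
  (0, 19))),
  (0,
  (64,
  (5, 33))),
  (0,
  (18,
  (50, 31))),
  (1,
  (71,
  (0, 70))),
  (3,
  (10,
  (0, 41))),
  (1,
  (64,
  (0, 69))),
  (0,
  (69,
  (19, 59))),
  (0,
  (69,
  (29, 66))),
  (0,
  (69,
  (3, 37))),
  (0,
  (69,
  (12, 52))),
  (0,
  (69,
  (4, 38))),
  (0,
  (69,
  (26, 62))),
  (0,
  (69,
  (1, 32))),
  (0,
  (69,
  (5, 42))),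
  (0,
  (41,
  (31, 36))),
  (0,
  (41,
  (33, 39))),
  (0,
  (41,
  (22, 25))),
  (0,
  (41,
  (50, 54))),
  (0,
  (41,
  (61, 65))),
  (0,
  (41,
  (57, 60))),
  (0,
  (41,
  (16, 20))),
  (0,
  (41,
  (5, 9))),
  (0,
  (70,
  (31, 68))),
  (0,
  (70,
  (16, 58))),
  (0,
  (70,
  (5, 43))),
  (0,
  (31,
  (10, 7))),
  (0,
  (33,
  (55, 53))),
  (0,
  (33,
  (10, 8))),
  (0,
  (33,
  (4, 2))),
  (0,
  (29,
  (24, 21))),
  (0,
  (29,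
  (15, 14))),
  (0,
  (47,
  (6, 11))),
  (0,
  (56,
  (6, 17))),
  (0,
  (6,
  (49, 13))),
  (0,
  (6,
  (71, 51))),
  (0,
  (6,
  (64, 35))),
  (0,
  (3,
  (63, 28))),
  (0,
  (3,
  (71, 48))),
  (0,
  (2,
  (68, 34))),
  (0,
  (7,
  (58, 23))),
  (0,
  (7,
  (70, 45)))]

theorem ckTorus_E6 : ckTorus E6.pk [0, 1, 2, 3, 4, 5] 0 0 5 2 cTE6 = true := by decide +kernel

def cPE6 : List (ℕ × ℕ × ℕ × ℕ) := [(2,
  (56,
  (0, 42))),
  (3,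
  (56,
  (0, 11))),
  (0,
  (11,
  (56, 26))),
  (0,
  (42,
  (56, 57))),
  (3,
  (11,
  (0, 23))),
  (0,
  (23,
  (26, 16))),
  (0,
  (23,
  (11, 5))),
  (0,
  (57,
  (11, 30))),
  (3,
  (23,
  (0, 28))),
  (0,
  (28,
  (5, 1))),
  (0,
  (28,
  (23, 18))),
  (0,
  (28,
  (42, 32))),
  (3,
  (28,
  (0, 8))),
  (2,
  (30,
  (0, 61))),
  (2,
  (57,
  (0, 50))),
  (0,
  (50,
  (18, 31))),
  (0,
  (50,
  (28, 46))),
  (0,
  (61,
  (8, 33))),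
  (0,
  (8,
  (32, 6))),
  (0,
  (8,
  (18, 0))),
  (0,
  (8,
  (28, 3))),
  (0,
  (8,
  (57, 22))),
  (0,
  (8,
  (56, 19))),
  (1,
  (50,
  (0, 64))),
  (1,
  (61,
  (0, 67))),
  (3,
  (8,
  (0, 36))),
  (1,
  (32,
  (0, 34))),
  (1,
  (42,
  (0, 47))),
  (0,
  (47,
  (0, 2))),
  (0,
  (47,
  (18, 27))),
  (0,
  (36,
  (67, 68))),
  (0,
  (36,
  (64, 65))),
  (0,
  (36,
  (19, 20))),
  (0,
  (36,
  (3, 4))),
  (0,
  (36,
  (6, 7))),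
  (0,
  (36,
  (8, 9))),
  (0,
  (36,
  (11, 12))),
  (0,
  (67,
  (3, 35))),
  (0,
  (67,
  (28, 62))),
  (0,
  (64,
  (23, 58))),
  (0,
  (19,
  (32, 17))),
  (1,
  (47,
  (0, 59))),
  (3,
  (36,
  (0, 37))),
  (1,
  (67,
  (0, 71))),
  (1,
  (64,
  (0, 69))),
  (0,
  (69,
  (12, 52))),
  (0,
  (69,
  (9, 45))),
  (0,
  (69,
  (4, 38))),
  (0,
  (69,
  (20, 60))),
  (0,
  (69,
  (27, 63))),
  (0,
  (69,
  (0, 24))),
  (0,
  (69,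
  (8, 44))),
  (0,
  (69,
  (11, 51))),
  (0,
  (71,
  (9, 54))),
  (0,
  (71,
  (4, 49))),
  (0,
  (71,
  (3, 48))),
  (0,
  (71,
  (8, 53))),
  (0,
  (37,
  (12, 13))),
  (0,
  (37,
  (9, 10))),
  (0,
  (37,
  (20, 21))),
  (0,
  (37,
  (65, 66))),
  (0,
  (59,
  (9, 25))),
  (0,
  (9,
  (67, 43))),
  (0,
  (9,
  (64, 39))),
  (0,
  (4,
  (64, 29))),
  (1,
  (71,
  (0, 70))),
  (0,
  (70,
  (13, 55))),
  (0,
  (70,
  (4, 41))),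
  (0,
  (70,
  (3, 40))),
  (0,
  (39,
  (13, 14))),
  (0,
  (43,
  (13, 15)))]

theorem ckPrime_E6 : ckPrime E6.pk [0, 1, 2, 3, 4, 5] 56 0 cPE6 = true := by decide +kernel

def cTE7 : List (ℕ × ℕ × ℕ × ℕ) := [(1,
  (34,
  (0, 54))),
  (3,
  (34,
  (0, 8))),
  (1,
  (1,
  (0, 2))),
  (1,
  (2,
  (0, 7))),
  (3,
  (8,
  (0, 3))),
  (1,
  (54,
  (0, 57))),
  (1,
  (57,
  (0, 100))),
  (3,
  (3,
  (0, 10))),
  (1,
  (7,
  (0, 33))),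
  (1,
  (33,
  (0, 53))),
  (3,
  (10,
  (0, 5))),
  (1,
  (100,
  (0, 110))),
  (0,
  (110,
  (10, 55))),
  (0,
  (5,
  (100, 36))),
  (1,
  (110,
  (0, 120))),
  (3,
  (5,
  (0, 15))),
  (1,
  (53,
  (0, 99))),
  (0,
  (99,
  (15, 49))),
  (0,
  (15,
  (57, 11))),
  (0,
  (120,
  (3, 58))),
  (1,
  (99,
  (0, 109))),
  (3,
  (15,
  (0, 25))),
  (1,
  (120,
  (0, 115))),
  (3,
  (120,
  (0, 18))),
  (0,
  (18,
  (15, 0))),
  (0,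
  (18,
  (120, 83))),
  (0,
  (115,
  (49, 103))),
  (0,
  (115,
  (15, 70))),
  (0,
  (115,
  (2, 43))),
  (0,
  (115,
  (8, 60))),
  (0,
  (115,
  (1, 39))),
  (0,
  (25,
  (109, 74))),
  (0,
  (25,
  (49, 13))),
  (0,
  (25,
  (99, 59))),
  (0,
  (25,
  (120, 89))),
  (0,
  (25,
  (54, 19))),
  (0,
  (109,
  (15, 61))),
  (3,
  (18,
  (0, 37))),
  (1,
  (115,
  (0, 122))),
  (3,
  (115,
  (0, 28))),
  (3,
  (25,
  (0, 68))),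
  (1,
  (109,
  (0, 119))),
  (0,
  (119,
  (13, 79))),
  (0,
  (119,
  (0, 27))),
  (0,
  (119,
  (25, 88))),
  (0,
  (119,
  (15, 80))),
  (0,
  (119,
  (5, 62))),
  (0,
  (119,
  (10, 78))),
  (0,
  (119,
  (1, 48))),
  (0,
  (68,
  (59, 65))),
  (0,
  (68,
  (74, 77))),
  (0,
  (68,
  (39, 42))),
  (0,
  (68,
  (60, 66))),
  (0,
  (68,
  (43, 46))),
  (0,
  (68,
  (103, 107))),
  (0,
  (68,
  (83, 86))),
  (0,
  (68,
  (18, 22))),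
  (0,
  (68,
  (115, 118))),
  (0,
  (68,
  (109, 113))),
  (0,
  (68,
  (58, 63))),
  (0,
  (68,
  (99, 102))),
  (0,
  (68,
  (110, 114))),
  (0,
  (68,
  (53, 56))),
  (0,
  (68,
  (3, 6))),
  (0,
  (68,
  (34, 38))),
  (0,
  (28,
  (43, 17))),
  (0,
  (28,
  (115, 87))),
  (0,
  (122,
  (59, 121))),
  (0,
  (122,
  (13, 82))),
  (0,
  (122,
  (74, 124))),
  (0,
  (122,
  (39, 106))),
  (0,
  (122,
  (43, 112))),
  (0,
  (122,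
  (0, 30))),
  (0,
  (122,
  (18, 85))),
  (0,
  (122,
  (25, 92))),
  (0,
  (122,
  (5, 67))),
  (0,
  (122,
  (34, 101))),
  (0,
  (122,
  (1, 51))),
  (0,
  (37,
  (59, 35))),
  (0,
  (37,
  (74, 44))),
  (0,
  (37,
  (115, 96))),
  (0,
  (37,
  (110, 94))),
  (0,
  (61,
  (25, 24))),
  (0,
  (61,
  (5, 4))),
  (0,
  (89,
  (39, 69))),
  (0,
  (60,
  (25, 23))),
  (1,
  (119,
  (0, 125))),
  (3,
  (68,
  (0, 71))),
  (3,
  (28,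
  (0, 45))),
  (1,
  (122,
  (0, 117))),
  (3,
  (37,
  (0, 12))),
  (0,
  (12,
  (125, 104))),
  (0,
  (12,
  (56, 9))),
  (0,
  (12,
  (114, 64))),
  (0,
  (12,
  (102, 50))),
  (0,
  (12,
  (86, 29))),
  (0,
  (12,
  (107, 52))),
  (0,
  (12,
  (66, 14))),
  (0,
  (12,
  (68, 16))),
  (0,
  (12,
  (122, 81))),
  (0,
  (117,
  (4, 47))),
  (0,
  (117,
  (51, 108))),
  (0,
  (117,
  (80, 123))),
  (0,
  (117,
  (37, 98))),
  (0,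
  (117,
  (61, 116))),
  (0,
  (117,
  (49, 105))),
  (0,
  (117,
  (15, 72))),
  (0,
  (117,
  (36, 97))),
  (0,
  (117,
  (33, 95))),
  (0,
  (117,
  (54, 111))),
  (0,
  (117,
  (1, 41))),
  (0,
  (71,
  (28, 31))),
  (0,
  (125,
  (1, 93))),
  (0,
  (23,
  (56, 20))),
  (0,
  (23,
  (114, 76))),
  (0,
  (23,
  (113, 75))),
  (0,
  (23,
  (86, 32))),
  (0,
  (23,
  (68, 26))),
  (0,
  (23,
  (122, 90))),
  (0,
  (69,
  (37, 40))),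
  (0,
  (4,
  (86, 21))),
  (0,
  (24,
  (122, 91))),
  (0,
  (44,
  (85, 73))),
  (0,
  (85,
  (61, 84)))]

theorem ckTorus_E7 : ckTorus E7.pk [0, 1, 2, 3, 4, 5, 6] 0 3 1 2 cTE7 = true := by decide +kernel

def cPE7 : List (ℕ × ℕ × ℕ × ℕ) := [(2,
  (93,
  (0, 73))),
  (3,
  (93,
  (0, 27))),
  (0,
  (27,
  (93, 48))),
  (0,
  (73,
  (93, 94))),
  (3,
  (27,
  (0, 44))),
  (2,
  (73,
  (0, 79))),
  (0,
  (79,
  (44, 58))),
  (0,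
  (79,
  (94, 99))),
  (0,
  (79,
  (73, 83))),
  (0,
  (44,
  (48, 33))),
  (0,
  (44,
  (27, 17))),
  (0,
  (94,
  (27, 53))),
  (2,
  (79,
  (0, 96))),
  (3,
  (44,
  (0, 50))),
  (0,
  (50,
  (17, 7))),
  (0,
  (50,
  (44, 35))),
  (0,
  (50,
  (73, 55))),
  (0,
  (96,
  (83, 109))),
  (0,
  (96,
  (79, 103))),
  (0,
  (96,
  (27, 60))),
  (3,
  (50,
  (0, 20))),
  (0,
  (20,
  (35, 2))),
  (0,
  (20,
  (50, 9))),
  (0,
  (20,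
  (93, 36))),
  (3,
  (20,
  (0, 40))),
  (0,
  (40,
  (9, 1))),
  (0,
  (40,
  (20, 4))),
  (0,
  (40,
  (27, 11))),
  (3,
  (40,
  (0, 29))),
  (0,
  (29,
  (4, 0))),
  (0,
  (29,
  (40, 13))),
  (0,
  (29,
  (44, 19))),
  (3,
  (29,
  (0, 46))),
  (0,
  (46,
  (13, 6))),
  (0,
  (46,
  (29, 22))),
  (0,
  (46,
  (50, 38))),
  (3,
  (46,
  (0, 52))),
  (0,
  (52,
  (22, 16))),
  (0,
  (52,
  (46, 42))),
  (0,
  (52,
  (20, 14))),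
  (3,
  (52,
  (0, 32))),
  (0,
  (32,
  (42, 26))),
  (0,
  (32,
  (52, 31))),
  (0,
  (32,
  (40, 24))),
  (0,
  (32,
  (103, 87))),
  (0,
  (32,
  (96, 75))),
  (3,
  (32,
  (0, 98))),
  (0,
  (98,
  (87, 116))),
  (0,
  (98,
  (31, 72))),
  (0,
  (98,
  (32, 77))),
  (0,
  (98,
  (29, 65))),
  (0,
  (98,
  (83, 111))),
  (0,
  (98,
  (79, 105))),
  (0,
  (75,
  (52, 70))),
  (3,
  (98,
  (0, 81))),
  (0,
  (81,
  (111, 121))),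
  (0,
  (81,
  (77, 92))),
  (0,
  (81,
  (116, 123))),
  (0,
  (81,
  (98, 108))),
  (0,
  (81,
  (75, 90))),
  (0,
  (81,
  (46, 67))),
  (0,
  (81,
  (109, 119))),
  (0,
  (81,
  (96, 106))),
  (0,
  (81,
  (94, 101))),
  (0,
  (81,
  (73, 85))),
  (0,
  (105,
  (32, 89))),
  (3,
  (81,
  (0, 21))),
  (2,
  (75,
  (0, 12))),
  (0,
  (12,
  (111, 59))),
  (0,
  (12,
  (77, 25))),
  (0,
  (12,
  (116, 69))),
  (0,
  (12,
  (98, 41))),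
  (0,
  (12,
  (75, 23))),
  (0,
  (12,
  (46, 5))),
  (0,
  (12,
  (109, 57))),
  (0,
  (12,
  (96, 39))),
  (0,
  (12,
  (44, 3))),
  (0,
  (12,
  (94, 34))),
  (0,
  (12,
  (73, 18))),
  (0,
  (21,
  (101, 56))),
  (0,
  (21,
  (106, 66))),
  (0,
  (21,
  (119, 84))),
  (0,
  (21,
  (108, 68))),
  (0,
  (21,
  (123, 91))),
  (0,
  (21,
  (121, 86))),
  (0,
  (21,
  (81, 30))),
  (0,
  (21,
  (105, 63))),
  (0,
  (21,
  (52, 15))),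
  (0,
  (21,
  (103, 61))),
  (0,
  (21,
  (50, 10))),
  (0,
  (21,
  (99, 54))),
  (0,
  (21,
  (79, 28))),
  (0,
  (21,
  (48, 8))),
  (0,
  (21,
  (93, 37))),
  (0,
  (85,
  (116, 124))),
  (0,
  (85,
  (98, 114))),
  (0,
  (85,
  (96, 112))),
  (0,
  (101,
  (116, 125))),
  (0,
  (106,
  (77, 118))),
  (0,
  (118,
  (54, 113))),
  (0,
  (118,
  (18, 76))),
  (0,
  (118,
  (34, 97))),
  (0,
  (118,
  (3, 47))),
  (0,
  (118,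
  (57, 115))),
  (0,
  (118,
  (59, 117))),
  (0,
  (118,
  (12, 71))),
  (0,
  (125,
  (8, 100))),
  (0,
  (125,
  (28, 120))),
  (0,
  (125,
  (10, 102))),
  (0,
  (125,
  (15, 107))),
  (0,
  (125,
  (30, 122))),
  (0,
  (125,
  (18, 110))),
  (0,
  (125,
  (3, 95))),
  (0,
  (125,
  (12, 104))),
  (0,
  (112,
  (3, 43))),
  (0,
  (112,
  (12, 62))),
  (0,
  (114,
  (3, 45))),
  (0,
  (114,
  (12, 64))),
  (0,
  (124,
  (3, 74))),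
  (0,
  (124,
  (12, 88))),
  (0,
  (37,
  (81, 51))),
  (0,
  (37,
  (79, 49))),
  (0,
  (8,
  (123, 80))),
  (0,
  (8,
  (121, 78))),
  (0,
  (28,
  (108, 82)))]

theorem ckPrime_E7 : ckPrime E7.pk [0, 1, 2, 3, 4, 5, 6] 93 3 cPE7 = true := by decide +kernel

def cTE8 : List (ℕ × ℕ × ℕ × ℕ) := [(1,
  (15,
  (0, 21))),
  (3,
  (15,
  (0, 0))),
  (1,
  (6,
  (0, 7))),
  (1,
  (7,
  (0, 14))),
  (3,
  (0,
  (0, 1))),
  (1,
  (21,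
  (0, 36))),
  (1,
  (36,
  (0, 78))),
  (3,
  (1,
  (0, 2))),
  (1,
  (14,
  (0, 8))),
  (1,
  (8,
  (0, 16))),
  (3,
  (2,
  (0, 3))),
  (1,
  (78,
  (0, 105))),
  (1,
  (105,
  (0, 169))),
  (3,
  (3,
  (0, 4))),
  (1,
  (16,
  (0, 22))),
  (1,
  (22,
  (0, 37))),
  (3,
  (4,
  (0, 5))),
  (1,
  (169,
  (0, 184))),
  (0,
  (184,
  (5, 26))),
  (1,
  (184,
  (0, 204))),
  (3,
  (5,
  (0, 13))),
  (1,
  (37,
  (0, 79))),
  (0,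
  (13,
  (204, 72))),
  (0,
  (13,
  (184, 58))),
  (0,
  (13,
  (169, 39))),
  (0,
  (204,
  (5, 46))),
  (0,
  (204,
  (4, 40))),
  (0,
  (204,
  (6, 56))),
  (1,
  (79,
  (0, 106))),
  (3,
  (13,
  (0, 35))),
  (1,
  (204,
  (0, 226))),
  (3,
  (204,
  (0, 80))),
  (0,
  (226,
  (35, 167))),
  (0,
  (226,
  (5, 88))),
  (0,
  (226,
  (4, 84))),
  (0,
  (226,
  (3, 81))),
  (0,
  (226,
  (7, 99))),
  (0,
  (226,
  (6, 93))),
  (0,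
  (35,
  (106, 25))),
  (0,
  (35,
  (184, 95))),
  (0,
  (35,
  (169, 83))),
  (0,
  (35,
  (105, 24))),
  (3,
  (80,
  (0, 38))),
  (1,
  (226,
  (0, 234))),
  (3,
  (226,
  (0, 100))),
  (3,
  (35,
  (0, 55))),
  (1,
  (106,
  (0, 110))),
  (0,
  (110,
  (55, 49))),
  (0,
  (110,
  (35, 28))),
  (0,
  (110,
  (13, 9))),
  (0,
  (55,
  (234, 213))),
  (0,
  (55,
  (93, 33))),
  (0,
  (55,
  (80, 20))),
  (0,
  (55,
  (226, 181))),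
  (0,
  (55,
  (106, 44))),
  (0,
  (55,
  (56, 11))),
  (0,
  (55,
  (79, 19))),
  (0,
  (55,
  (204, 144))),
  (0,
  (55,
  (169, 102))),
  (0,
  (55,
  (105, 43))),
  (0,
  (55,
  (78, 18))),
  (0,
  (100,
  (167, 162))),
  (0,
  (234,
  (35, 193))),
  (0,
  (234,
  (13, 151))),
  (0,
  (234,
  (4, 109))),
  (0,
  (234,
  (3, 108))),
  (0,
  (234,
  (2, 107))),
  (0,
  (234,
  (14, 163))),
  (0,
  (234,
  (7, 141))),
  (0,
  (234,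
  (6, 135))),
  (1,
  (110,
  (0, 170))),
  (3,
  (55,
  (0, 70))),
  (3,
  (100,
  (0, 57))),
  (1,
  (234,
  (0, 235))),
  (3,
  (38,
  (0, 23))),
  (0,
  (23,
  (235, 185))),
  (0,
  (235,
  (70, 224))),
  (0,
  (235,
  (18, 175))),
  (0,
  (235,
  (43, 207))),
  (0,
  (235,
  (19, 176))),
  (0,
  (235,
  (11, 153))),
  (0,
  (235,
  (44, 208))),
  (0,
  (235,
  (20, 177))),
  (0,
  (235,
  (33, 197))),
  (0,
  (235,
  (55, 217))),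
  (0,
  (235,
  (24, 186))),
  (0,
  (235,
  (25, 187))),
  (0,
  (235,
  (35, 199))),
  (0,
  (235,
  (13, 155))),
  (0,
  (235,
  (5, 130))),
  (0,
  (235,
  (3, 113))),
  (0,
  (235,
  (8, 147))),
  (0,
  (235,
  (2, 112))),
  (0,
  (235,
  (1, 111))),
  (0,
  (235,
  (14, 164))),
  (0,
  (235,
  (7, 142))),
  (0,
  (235,
  (6, 136))),
  (0,
  (57,
  (144, 71))),
  (0,
  (57,
  (181, 119))),
  (0,
  (57,
  (213, 150))),
  (0,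
  (57,
  (55, 12))),
  (0,
  (70,
  (170, 126))),
  (0,
  (70,
  (141, 75))),
  (0,
  (70,
  (163, 97))),
  (0,
  (70,
  (107, 64))),
  (0,
  (70,
  (108, 65))),
  (0,
  (70,
  (162, 92))),
  (0,
  (70,
  (110, 66))),
  (0,
  (70,
  (100, 53))),
  (0,
  (70,
  (234, 223))),
  (0,
  (70,
  (99, 52))),
  (0,
  (70,
  (80, 32))),
  (0,
  (70,
  (226, 200))),
  (0,
  (70,
  (106, 63))),
  (0,
  (70,
  (79, 31))),
  (0,
  (70,
  (204, 156))),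
  (0,
  (70,
  (184, 137))),
  (0,
  (70,
  (105, 62))),
  (0,
  (70,
  (78, 30))),
  (0,
  (70,
  (36, 10))),
  (0,
  (170,
  (55, 103))),
  (0,
  (170,
  (35, 86))),
  (0,
  (170,
  (13, 42))),
  (0,
  (170,
  (5, 17))),
  (0,
  (135,
  (144, 149))),
  (0,
  (135,
  (181, 191))),
  (0,
  (135,
  (49, 59))),
  (0,
  (141,
  (167, 172))),
  (0,
  (141,
  (35, 45))),
  (0,
  (163,
  (144, 171))),
  (0,
  (163,
  (55, 87))),
  (0,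
  (151,
  (162, 173))),
  (0,
  (151,
  (28, 61))),
  (0,
  (151,
  (49, 74))),
  (0,
  (193,
  (49, 124))),
  (0,
  (144,
  (93, 117))),
  (1,
  (235,
  (0, 236))),
  (3,
  (57,
  (0, 82))),
  (3,
  (70,
  (0, 134))),
  (0,
  (134,
  (117, 132))),
  (0,
  (134,
  (171, 182))),
  (0,
  (134,
  (172, 183))),
  (0,
  (134,
  (59, 69))),
  (0,
  (134,
  (191, 203))),
  (0,
  (134,
  (149, 160))),
  (0,
  (134,
  (150, 161))),
  (0,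
  (134,
  (119, 133))),
  (0,
  (134,
  (71, 76))),
  (0,
  (134,
  (185, 198))),
  (0,
  (134,
  (23, 34))),
  (0,
  (134,
  (57, 68))),
  (0,
  (134,
  (170, 180))),
  (0,
  (134,
  (135, 140))),
  (0,
  (134,
  (141, 146))),
  (0,
  (134,
  (163, 168))),
  (0,
  (134,
  (107, 122))),
  (0,
  (134,
  (108, 125))),
  (0,
  (134,
  (109, 129))),
  (0,
  (134,
  (234, 239))),
  (0,
  (134,
  (38, 51))),
  (0,
  (134,
  (93, 98))),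
  (0,
  (134,
  (99, 104))),
  (0,
  (134,
  (81, 91))),
  (0,
  (134,
  (226, 231))),
  (0,
  (134,
  (106, 120))),
  (0,
  (134,
  (56, 67))),
  (0,
  (134,
  (79, 90))),
  (0,
  (134,
  (204, 215))),
  (0,
  (134,
  (184, 196))),
  (0,
  (134,
  (37, 50))),
  (0,
  (134,
  (78, 89))),
  (0,
  (134,
  (36, 48))),
  (0,
  (134,
  (21, 29))),
  (0,
  (82,
  (236, 227))),
  (0,
  (82,
  (137, 94))),
  (0,
  (82,
  (156, 118))),
  (0,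
  (82,
  (200, 166))),
  (0,
  (82,
  (223, 192))),
  (0,
  (82,
  (66, 27))),
  (0,
  (82,
  (126, 85))),
  (0,
  (236,
  (124, 238))),
  (0,
  (236,
  (74, 225))),
  (0,
  (236,
  (61, 221))),
  (0,
  (236,
  (87, 230))),
  (0,
  (236,
  (45, 212))),
  (0,
  (236,
  (59, 219))),
  (0,
  (236,
  (12, 157))),
  (0,
  (236,
  (23, 188))),
  (0,
  (236,
  (18, 178))),
  (0,
  (236,
  (43, 210))),
  (0,
  (236,
  (102, 233))),
  (0,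
  (236,
  (19, 179))),
  (0,
  (236,
  (44, 211))),
  (0,
  (236,
  (9, 152))),
  (0,
  (236,
  (28, 195))),
  (0,
  (236,
  (49, 214))),
  (0,
  (236,
  (55, 218))),
  (0,
  (236,
  (38, 205))),
  (0,
  (236,
  (24, 189))),
  (0,
  (236,
  (83, 228))),
  (0,
  (236,
  (25, 190))),
  (0,
  (236,
  (35, 202))),
  (0,
  (236,
  (39, 206))),
  (0,
  (236,
  (13, 158))),
  (0,
  (236,
  (5, 131))),
  (0,
  (236,
  (16, 174))),
  (0,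
  (236,
  (8, 148))),
  (0,
  (236,
  (2, 116))),
  (0,
  (236,
  (1, 115))),
  (0,
  (236,
  (14, 165))),
  (0,
  (236,
  (7, 143))),
  (0,
  (236,
  (0, 114))),
  (0,
  (124,
  (137, 139))),
  (0,
  (124,
  (156, 159))),
  (0,
  (124,
  (126, 128))),
  (0,
  (74,
  (137, 77))),
  (0,
  (173,
  (197, 229))),
  (0,
  (87,
  (156, 127))),
  (0,
  (87,
  (136, 96))),
  (0,
  (87,
  (153, 123))),
  (0,
  (171,
  (224, 237))),
  (0,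
  (45,
  (235, 209))),
  (0,
  (172,
  (10, 41))),
  (0,
  (191,
  (155, 222))),
  (0,
  (42,
  (176, 101))),
  (0,
  (10,
  (176, 47))),
  (0,
  (30,
  (235, 194))),
  (0,
  (137,
  (208, 220))),
  (0,
  (63,
  (113, 60))),
  (0,
  (63,
  (197, 138))),
  (0,
  (200,
  (187, 232))),
  (0,
  (64,
  (142, 73))),
  (0,
  (64,
  (176, 121))),
  (0,
  (75,
  (176, 145))),
  (0,
  (12,
  (235, 154))),
  (0,
  (154,
  (180, 216))),
  (0,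
  (145,
  (32, 54))),
  (0,
  (232,
  (53, 201)))]

theorem ckTorus_E8 : ckTorus E8.pk [0, 1, 2, 3, 4, 5, 6, 7] 0 0 6 1 cTE8 = true := by decide +kernel

def cPE8 : List (ℕ × ℕ × ℕ × ℕ) := [(2,
  (162,
  (0, 135))),
  (3,
  (162,
  (0, 71))),
  (0,
  (71,
  (162, 99))),
  (0,
  (135,
  (162, 163))),
  (3,
  (71,
  (0, 94))),
  (2,
  (135,
  (0, 142))),
  (0,
  (142,
  (94, 111))),
  (0,
  (142,
  (163, 169))),
  (0,
  (142,
  (135, 147))),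
  (0,
  (94,
  (99, 78))),
  (0,
  (94,
  (71, 56))),
  (0,
  (163,
  (71, 105))),
  (2,
  (142,
  (0, 165))),
  (3,
  (94,
  (0, 101))),
  (0,
  (101,
  (56, 36))),
  (0,
  (101,
  (94, 80))),
  (0,
  (101,
  (135, 107))),
  (0,
  (165,
  (147, 184))),
  (0,
  (165,
  (142, 174))),
  (0,
  (165,
  (71, 114))),
  (3,
  (101,
  (0, 59))),
  (2,
  (165,
  (0, 149))),
  (0,
  (149,
  (174, 204))),
  (0,
  (149,
  (80, 106))),
  (0,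
  (149,
  (101, 141))),
  (0,
  (149,
  (165, 188))),
  (0,
  (149,
  (162, 171))),
  (0,
  (59,
  (174, 110))),
  (0,
  (59,
  (80, 21))),
  (0,
  (59,
  (101, 38))),
  (0,
  (59,
  (165, 93))),
  (0,
  (59,
  (162, 81))),
  (2,
  (149,
  (0, 176))),
  (3,
  (59,
  (0, 85))),
  (0,
  (85,
  (38, 15))),
  (0,
  (85,
  (59, 23))),
  (0,
  (85,
  (142, 100))),
  (0,
  (85,
  (71, 40))),
  (0,
  (176,
  (188, 226))),
  (0,
  (176,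
  (149, 207))),
  (0,
  (176,
  (94, 164))),
  (0,
  (176,
  (135, 186))),
  (0,
  (93,
  (101, 79))),
  (0,
  (188,
  (101, 170))),
  (3,
  (85,
  (0, 47))),
  (0,
  (47,
  (23, 0))),
  (0,
  (47,
  (85, 17))),
  (0,
  (47,
  (94, 26))),
  (0,
  (47,
  (135, 57))),
  (0,
  (164,
  (149, 185))),
  (0,
  (100,
  (59, 37))),
  (3,
  (47,
  (0, 60))),
  (1,
  (186,
  (0, 206))),
  (1,
  (164,
  (0, 148))),
  (1,
  (207,
  (0, 228))),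
  (1,
  (226,
  (0, 234))),
  (1,
  (176,
  (0, 190))),
  (0,
  (190,
  (0, 22))),
  (0,
  (190,
  (47, 116))),
  (0,
  (234,
  (47, 205))),
  (0,
  (228,
  (60, 187))),
  (0,
  (60,
  (17, 1))),
  (0,
  (60,
  (47, 9))),
  (0,
  (60,
  (176, 113))),
  (0,
  (60,
  (101, 39))),
  (0,
  (60,
  (162, 82))),
  (1,
  (190,
  (0, 153))),
  (3,
  (190,
  (0, 16))),
  (1,
  (234,
  (0, 235))),
  (1,
  (228,
  (0, 220))),
  (1,
  (148,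
  (0, 175))),
  (1,
  (206,
  (0, 194))),
  (3,
  (60,
  (0, 86))),
  (0,
  (86,
  (113, 83))),
  (0,
  (86,
  (9, 2))),
  (0,
  (86,
  (60, 25))),
  (0,
  (86,
  (207, 172))),
  (0,
  (86,
  (149, 109))),
  (0,
  (86,
  (59, 24))),
  (0,
  (86,
  (71, 41))),
  (0,
  (175,
  (190, 227))),
  (0,
  (220,
  (17, 115))),
  (0,
  (220,
  (47, 152))),
  (0,
  (153,
  (17, 46))),
  (0,
  (153,
  (85, 118))),
  (0,
  (113,
  (116, 112))),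
  (0,
  (9,
  (190, 58))),
  (3,
  (86,
  (0, 49))),
  (1,
  (194,
  (0, 210))),
  (1,
  (175,
  (0, 189))),
  (1,
  (220,
  (0, 214))),
  (1,
  (235,
  (0, 236))),
  (3,
  (16,
  (0, 8))),
  (1,
  (153,
  (0, 179))),
  (0,
  (179,
  (118, 178))),
  (0,
  (179,
  (23, 84))),
  (0,
  (179,
  (59, 119))),
  (0,
  (236,
  (59, 219))),
  (0,
  (214,
  (23, 117))),
  (0,
  (49,
  (109, 43))),
  (0,
  (49,
  (25, 3))),
  (0,
  (49,
  (86, 19))),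
  (0,
  (49,
  (85, 18))),
  (0,
  (49,
  (165, 88))),
  (0,
  (49,
  (94, 27))),
  (0,
  (109,
  (113, 108))),
  (1,
  (179,
  (0, 192))),
  (3,
  (8,
  (0, 14))),
  (1,
  (236,
  (0, 237))),
  (1,
  (214,
  (0, 230))),
  (1,
  (189,
  (0, 208))),
  (1,
  (210,
  (0, 229))),
  (3,
  (49,
  (0, 63))),
  (0,
  (63,
  (88, 30))),
  (0,
  (63,
  (19, 4))),
  (0,
  (63,
  (119, 62))),
  (0,
  (63,
  (179, 126))),
  (0,
  (63,
  (214, 156))),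
  (0,
  (63,
  (49, 11))),
  (0,
  (63,
  (47, 10))),
  (0,
  (63,
  (101, 42))),
  (0,
  (63,
  (142, 72))),
  (0,
  (208,
  (19, 102))),
  (0,
  (208,
  (179, 233))),
  (0,
  (208,
  (86, 173))),
  (0,
  (230,
  (27, 166))),
  (0,
  (230,
  (3, 87))),
  (0,
  (230,
  (49, 181))),
  (0,
  (230,
  (59, 191))),
  (0,
  (237,
  (3, 123))),
  (3,
  (63,
  (0, 90))),
  (1,
  (229,
  (0, 221))),
  (1,
  (208,
  (0, 195))),
  (1,
  (230,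
  (0, 222))),
  (1,
  (237,
  (0, 238))),
  (3,
  (14,
  (0, 7))),
  (1,
  (192,
  (0, 154))),
  (0,
  (154,
  (87, 124))),
  (0,
  (154,
  (166, 197))),
  (0,
  (154,
  (173, 209))),
  (0,
  (154,
  (42, 73))),
  (0,
  (154,
  (126, 157))),
  (0,
  (154,
  (4, 12))),
  (0,
  (154,
  (30, 66))),
  (0,
  (154,
  (63, 77))),
  (0,
  (154,
  (14, 28))),
  (0,
  (154,
  (109, 150))),
  (0,
  (154,
  (25, 61))),
  (0,
  (154,
  (86, 121))),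
  (0,
  (154,
  (94, 136))),
  (0,
  (7,
  (238, 145))),
  (0,
  (7,
  (222, 74))),
  (0,
  (7,
  (230, 103))),
  (0,
  (7,
  (237, 144))),
  (0,
  (7,
  (192, 44))),
  (0,
  (7,
  (236, 143))),
  (0,
  (238,
  (72, 225))),
  (0,
  (238,
  (42, 212))),
  (0,
  (238,
  (11, 159))),
  (0,
  (238,
  (4, 128))),
  (0,
  (238,
  (30, 200))),
  (0,
  (238,
  (63, 223))),
  (0,
  (238,
  (14, 167))),
  (0,
  (238,
  (25, 193))),
  (0,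
  (238,
  (94, 232))),
  (0,
  (222,
  (90, 199))),
  (0,
  (222,
  (42, 151))),
  (0,
  (222,
  (4, 65))),
  (0,
  (222,
  (30, 138))),
  (0,
  (222,
  (14, 96))),
  (0,
  (195,
  (4, 31))),
  (0,
  (195,
  (63, 137))),
  (0,
  (195,
  (25, 95))),
  (0,
  (221,
  (4, 64))),
  (0,
  (90,
  (123, 91))),
  (0,
  (90,
  (72, 48))),
  (0,
  (90,
  (11, 5))),
  (0,
  (90,
  (156, 131))),
  (0,
  (90,
  (63, 32))),
  (0,
  (90,
  (208, 177))),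
  (0,
  (90,
  (237, 231))),
  (0,
  (90,
  (192, 168))),
  (0,
  (90,
  (118, 89))),
  (0,
  (90,
  (220, 196))),
  (0,
  (90,
  (153, 130))),
  (0,
  (90,
  (60, 29))),
  (0,
  (123,
  (126, 127))),
  (0,
  (181,
  (10, 52))),
  (0,
  (173,
  (156, 211))),
  (1,
  (154,
  (0, 180))),
  (3,
  (7,
  (0, 6))),
  (1,
  (238,
  (0, 239))),
  (1,
  (222,
  (0, 216))),
  (1,
  (221,
  (0, 215))),
  (0,
  (215,
  (6, 67))),
  (0,
  (215,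
  (64, 158))),
  (0,
  (215,
  (96, 198))),
  (0,
  (215,
  (65, 160))),
  (0,
  (215,
  (128, 218))),
  (0,
  (215,
  (61, 155))),
  (0,
  (215,
  (12, 76))),
  (0,
  (215,
  (124, 217))),
  (0,
  (215,
  (87, 182))),
  (0,
  (215,
  (4, 53))),
  (0,
  (215,
  (19, 104))),
  (0,
  (215,
  (3, 50))),
  (0,
  (215,
  (25, 120))),
  (0,
  (216,
  (6, 68))),
  (0,
  (216,
  (138, 224))),
  (0,
  (216,
  (65, 161))),
  (0,
  (216,
  (44, 146))),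
  (0,
  (216,
  (87, 183))),
  (0,
  (216,
  (4, 54))),
  (0,
  (216,
  (3, 51))),
  (0,
  (216,
  (25, 122))),
  (0,
  (239,
  (6, 140))),
  (0,
  (239,
  (5, 134))),
  (0,
  (239,
  (31, 202))),
  (0,
  (239,
  (4, 129))),
  (0,
  (239,
  (30, 201))),
  (0,
  (239,
  (3, 125))),
  (0,
  (239,
  (43, 213))),
  (0,
  (6,
  (231, 98))),
  (0,
  (6,
  (238, 139))),
  (0,
  (6,
  (181, 33))),
  (0,
  (6,
  (230, 97))),
  (0,
  (180,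
  (3, 20))),
  (0,
  (211,
  (12, 75))),
  (0,
  (52,
  (168, 92))),
  (0,
  (52,
  (199, 133))),
  (0,
  (127,
  (29, 34))),
  (0,
  (127,
  (130, 132))),
  (0,
  (127,
  (199, 203))),
  (0,
  (29,
  (128, 35))),
  (0,
  (29,
  (159, 69))),
  (0,
  (32,
  (159, 70))),
  (0,
  (32,
  (74, 13))),
  (0,
  (64,
  (102, 45))),
  (0,
  (45,
  (132, 55)))]

theorem ckPrime_E8 : ckPrime E8.pk [0, 1, 2, 3, 4, 5, 6, 7] 162 0 cPE8 = true := by decide +kernel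

end Cfsg.Agent.Chev.TwoGen
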